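import Cfsg.Agent.Lib.Lie.PSpFourThreeFull.SpSix.Transfer
import Cfsg.Agent.Lib.Lie.PSpFourThreeAmalgam.NoFive
import Cfsg.Agent.S0058
import Cfsg.Agent.S3331

/-!
The centraliser of `t` lies in the copy of `Sp₆(2)`.
-/

set_option autoImplicit false
set_option maxHeartbeats 1000000

universe u

namespace Cfsg.Agent.Lie.PSpFourThreeFull.SpSix

/-- Eight squarings. -/
theorem sq8_pow : ∀ (x : Sp), sq8 (enc x) = enc (x ^ 256) := by
  intro x
  have h : ∀ (n : ℕ), (List.range n).foldl (fun b _ => cm b b) (enc x) = enc (x ^ 2 ^ n) := by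
    intro n
    induction n with
    | zero => simp
    | succ n ih => rw [List.range_succ, List.foldl_concat, ih, ← enc_mul, ← pow_add, pow_succ, mul_two]
  exact h 8

/-- The elements of the centraliser of `t` acting trivially on `L^⊥ / L`. -/
def MM : Subgroup Sp :=
  ofPred (fun x => x ∈ XT ∧ (pu (enc x) == (4, 32)) = true)
    ⟨one_mem _, by rw [pu_one]; decide +kernel⟩
    fun x y ⟨hx, hx'⟩ ⟨hy, hy'⟩ => ⟨mul_mem hx hy, by
      rw [beq_iff_eq] at hx' hy' ⊢
      rw [pu_mul hx hy, hx', hy']; decide +kernel⟩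

theorem mem_MM {x : Sp} : x ∈ MM ↔ x ∈ XT ∧ pu (enc x) = (4, 32) := by
  show (_ ∧ _) ↔ _
  rw [beq_iff_eq]

theorem card_MM : Nat.card MM = 768 := by
  rw [show Nat.card MM = Nat.card {x : Sp // enc x ∈ xhList ∧ (fun a => pu a == (4, 32)) (enc x) = true} from
    Nat.card_congr (Equiv.subtypeEquivRight fun x => by rw [mem_MM, mem_XT, beq_iff_eq]),
    card_filter (fun a => pu a == (4, 32)) fun a h _ => (xh_ok h).1]
  exact xh_counts.2.2.2

theorem AA_cases {x : Sp} (hx : x ∈ Subgroup.closure ({xL, xU} : Set Sp)) : ∃ i j : ℕ, x = xL ^ i * xU ^ j := by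
  have hc : Commute xL xU := levi_rel.2.2.1
  induction hx using Subgroup.closure_induction with
  | mem y hy =>
    rcases hy with rfl | rfl
    · exact ⟨1, 0, by simp⟩
    · exact ⟨0, 1, by simp⟩
  | one => exact ⟨0, 0, by simp⟩
  | mul a b _ _ iha ihb =>
    obtain ⟨i, j, rfl⟩ := iha
    obtain ⟨i', j', rfl⟩ := ihb
    exact ⟨i + i', j + j', by rw [pow_add, pow_add, (hc.symm.pow_pow j i').mul_mul_mul_comm]⟩
  | inv a _ iha =>
    obtain ⟨i, j, rfl⟩ := iha
    refine ⟨2 * i, 2 * j, inv_eq_of_mul_eq_one_right ?_⟩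
    rw [(hc.symm.pow_pow j (2 * i)).mul_mul_mul_comm, ← pow_add, ← pow_add, show i + 2 * i = 3 * i by ring,
      show j + 2 * j = 3 * j by ring, pow_mul, pow_mul, levi_rel.1, levi_rel.2.1, one_pow, one_pow, one_mul]

theorem levi_comm (i j i' j' : ℕ) :
    xL ^ i * xU ^ j * (xL ^ i' * xU ^ j') = xL ^ i' * xU ^ j' * (xL ^ i * xU ^ j) :=
  have hc : Commute xL xU := levi_rel.2.2.1
  ((((Commute.refl xL).pow_pow i i').mul_right (hc.pow_pow i j')).mul_left
    ((hc.symm.pow_pow j i').mul_right ((Commute.refl xU).pow_pow j j'))).eq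

theorem levi_cube (i j : ℕ) : (xL ^ i * xU ^ j) ^ 3 = 1 := by
  have hc : Commute xL xU := levi_rel.2.2.1
  rw [(hc.pow_pow i j).mul_pow, ← pow_mul, ← pow_mul, mul_comm i, mul_comm j, pow_mul, pow_mul,
    levi_rel.1, levi_rel.2.1, one_pow, one_pow, one_mul]

/-- Conjugation by an element normalising a subgroup, as an automorphism of it. -/
noncomputable def conjAut {A : Type*} [Group A] [Finite A] (K : Subgroup A) (u : A) (h : ∀ k : K, u * k * u⁻¹ ∈ K) :
    MulAut K :=
  MulEquiv.ofBijective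
    ({ toFun := fun k => ⟨u * k * u⁻¹, h k⟩
       map_one' := Subtype.ext (by simp)
       map_mul' := fun a b => Subtype.ext (by simp [mul_assoc]) } : K →* K)
    (Finite.injective_iff_bijective.1 fun a b e => Subtype.ext (by
      have e' : u * (a : A) * u⁻¹ = u * b * u⁻¹ := congrArg Subtype.val e
      simpa using e'))

theorem conjAut_coe {A : Type*} [Group A] [Finite A] (K : Subgroup A) (u : A) (h : ∀ k : K, u * k * u⁻¹ ∈ K) (k : K) :
    ((conjAut K u h k : K) : A) = u * k * u⁻¹ := rfl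

/-- The image of a kernel is invariant under the elements of the domain. -/
theorem conj_mem_map_ker {A C : Type*} [Group A] [Group C] {B : Subgroup A} (f : B →* C) {u g : A} (hu : u ∈ B)
    (hg : g ∈ f.ker.map B.subtype) : u * g * u⁻¹ ∈ f.ker.map B.subtype := by
  obtain ⟨b, hb, rfl⟩ := hg
  exact ⟨⟨u, hu⟩ * b * ⟨u, hu⟩⁻¹, (MonoidHom.normal_ker f).conj_mem b hb _, rfl⟩

/-- No elementary two-group of order thirty-two has a fixed-point-free element of order three. -/
theorem no_fpf_three {Q : Type*} [Group Q] [Finite Q] (N : Subgroup Q) [N.Normal] (hN : Nat.card N = 32) (x : Q)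
    (hx : orderOf x = 3) (hc : ∀ g : Q, g * x = x * g → g ∈ Subgroup.zpowers x) : False := by
  haveI : Fact (Nat.Prime 3) := ⟨Nat.prime_three⟩
  have hX : IsPGroup 3 (Subgroup.zpowers x) := IsPGroup.of_card (n := 1) (by rw [Nat.card_zpowers, hx, pow_one])
  letI : MulAction (Subgroup.zpowers x) N :=
    MulAction.compHom N ((MulAut.conjNormal : Q →* MulAut N).comp (Subgroup.zpowers x).subtype)
  have h := hX.card_modEq_card_fixedPoints N
  have hsub : Subsingleton (MulAction.fixedPoints (Subgroup.zpowers x) N) := by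
    have key : ∀ n : MulAction.fixedPoints (Subgroup.zpowers x) N, ((n : N) : Q) = 1 := fun n => by
      have e := congrArg Subtype.val (n.2 ⟨x, Subgroup.mem_zpowers x⟩)
      have e' : x * ((n : N) : Q) * x⁻¹ = ((n : N) : Q) := e
      have hm := hc _ (mul_inv_eq_iff_eq_mul.1 e').symm
      refine orderOf_eq_one_iff.1 (Nat.eq_one_of_dvd_coprimes (show Nat.Coprime 32 3 by norm_num) ?_ ?_)
      · rw [← hN, Subgroup.orderOf_coe]
        exact orderOf_dvd_natCard _
      · rw [← hx, ← Nat.card_zpowers x]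
        exact Subgroup.orderOf_dvd_natCard _ hm
    exact ⟨fun a b => Subtype.ext (Subtype.ext ((key a).trans (key b).symm))⟩
  have h1 : Nat.card (MulAction.fixedPoints (Subgroup.zpowers x) N) = 1 := by
    refine le_antisymm (Finite.card_le_one_iff_subsingleton.2 hsub) ?_
    haveI : Nonempty (MulAction.fixedPoints (Subgroup.zpowers x) N) := ⟨⟨1, fun g => map_one (MulAut.conjNormal (g : Q))⟩⟩
    exact Nat.one_le_iff_ne_zero.2 Nat.card_pos.ne'
  rw [h1, hN] at h
  exact absurd h (by decide)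

namespace Emb

variable {G : Type u} [Group G] [Finite G] (d : Emb G)

/-- The subgroup of index six. -/
noncomputable def X3 : Subgroup d.XG := d.tr3.ker.map d.X2.subtype

theorem ξ_mem_X3 {x : XT} : d.ξ x ∈ d.X3 ↔ pu (enc x.1) = (4, 32) := by
  constructor
  · intro h
    obtain ⟨⟨_, h2⟩, h3, rfl⟩ := h
    have hodd := (d.mem_X2 x).1 h2
    obtain ⟨m, hm, hp, j, e | e⟩ := pu_cases x.2
    · have hU2 : d.ξ ⟨xU, xU_mem⟩ ∈ d.X2 := (d.mem_X2 _).2 (by rw [pu_levi.1]; decide +kernel)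
      have hm2 : d.ξ ⟨m, hm⟩ ∈ d.X2 := (d.mem_X2 _).2 (by show puOdd (pu (enc m)) = false; rw [hp]; decide +kernel)
      have hmker : d.tr3 ⟨_, hm2⟩ = 1 := by
        have h := trivial_part_le (((d.tr3.ker.map d.X2.subtype).comap d.ξ).map XT.subtype) (fun y hy hA => by
          have hy2 : d.ξ ⟨y, hy⟩ ∈ d.X2 := (d.mem_X2 _).2 (by rw [isA_sgn (x := ⟨y, hy⟩) hA]; decide +kernel)
          refine ⟨⟨y, hy⟩, ⟨⟨_, hy2⟩, ?_, rfl⟩, rfl⟩
          have h' := hA
          simp only [isA, Bool.and_eq_true, involB_iff] at h'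
          have h2 : d.tr3 ⟨_, hy2⟩ ^ 2 = 1 := by
            rw [← map_pow, show (⟨d.ξ ⟨y, hy⟩, hy2⟩ : d.X2) ^ 2 = 1 from Subtype.ext (Subtype.ext (by
              show d.φ y ^ 2 = 1
              rw [← map_pow, pow_two, h'.1.1, map_one])), map_one]
          exact (by decide +kernel : ∀ a : Multiplicative (ZMod 3), a ^ 2 = 1 → a = 1) _ h2) hm hp
        obtain ⟨m', ⟨m'', hm'', e'⟩, em⟩ := h
        have : m'' = ⟨d.ξ ⟨m, hm⟩, hm2⟩ := Subtype.ext (e'.trans (congrArg d.ξ (Subtype.ext em)))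
        rw [← this]
        exact hm''
      have e3 : (⟨d.ξ x, h2⟩ : d.X2) = ⟨_, hm2⟩ * ⟨_, hU2⟩ ^ j := Subtype.ext (by
        show d.ξ x = d.ξ ⟨m, hm⟩ * (d.ξ ⟨xU, xU_mem⟩) ^ j
        rw [← map_pow, ← map_mul]
        exact congrArg d.ξ (Subtype.ext e))
      have h3' : d.tr3 ⟨d.ξ x, h2⟩ = 1 := h3
      rw [e3, map_mul, map_pow, hmker, one_mul] at h3'
      have hj : 3 ∣ j := by
        have hne := d.tr3_U hU2
        revert h3' hne
        generalize d.tr3 ⟨d.ξ ⟨xU, xU_mem⟩, hU2⟩ = a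
        intro h3' hne
        have h9 : orderOf a = 3 := orderOf_eq_prime (p := 3) (hp := ⟨Nat.prime_three⟩)
          ((by decide +kernel : ∀ a : Multiplicative (ZMod 3), a ^ 3 = 1) a) hne
        rw [← h9]
        exact orderOf_dvd_of_pow_eq_one h3'
      obtain ⟨k, rfl⟩ := hj
      rw [pow_mul, levi_rel.2.1, one_pow, mul_one] at e
      rw [e]
      exact hp
    · exfalso
      have h1 : d.tr2 (d.ξ x) = 1 := h2
      rw [d.tr2_eq, show x = ⟨m, hm⟩ * (⟨xU, xU_mem⟩ ^ j * ⟨xSU, xSU_mem⟩) from Subtype.ext e] at h1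
      simp only [map_mul, map_pow, sgnU_apply, hp, pu_levi.1, pu_levi.2.2.1] at h1
      rw [show puOdd (4, 32) = false by decide +kernel, show puOdd (32, 36) = false by decide +kernel] at h1
      simp at h1
  · intro hp
    have h := trivial_part_le ((d.X3.comap d.ξ).map XT.subtype) (fun y hy hA => by
      have hy2 : d.ξ ⟨y, hy⟩ ∈ d.X2 := (d.mem_X2 _).2 (by rw [isA_sgn (x := ⟨y, hy⟩) hA]; decide +kernel)
      refine ⟨⟨y, hy⟩, ⟨⟨_, hy2⟩, ?_, rfl⟩, rfl⟩
      have h' := hA
      simp only [isA, Bool.and_eq_true, involB_iff] at h'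
      have h2 : d.tr3 ⟨_, hy2⟩ ^ 2 = 1 := by
        rw [← map_pow, show (⟨d.ξ ⟨y, hy⟩, hy2⟩ : d.X2) ^ 2 = 1 from Subtype.ext (Subtype.ext (by
          show d.φ y ^ 2 = 1
          rw [← map_pow, pow_two, h'.1.1, map_one])), map_one]
      exact (by decide +kernel : ∀ a : Multiplicative (ZMod 3), a ^ 2 = 1 → a = 1) _ h2) x.2 hp
    obtain ⟨x', hx', e⟩ := h
    rw [← Subtype.ext e]
    exact hx'

theorem card_X3 : Nat.card d.XG = 6 * Nat.card d.X3 := by
  have h2 := d.tr2.ker.card_mul_index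
  have h3 := d.tr3.ker.card_mul_index
  have hr2 : Nat.card d.tr2.range = 2 := by
    rw [show d.tr2.range = ⊤ from eq_top_iff.2 fun u _ => by
      rcases Int.units_eq_one_or u with rfl | rfl
      · exact one_mem _
      · exact ⟨_, d.tr2_SU⟩, Subgroup.card_top, Nat.card_eq_fintype_card]
    rfl
  have hU2 : d.ξ ⟨xU, xU_mem⟩ ∈ d.X2 := (d.mem_X2 _).2 (by rw [pu_levi.1]; decide +kernel)
  have hr3 : Nat.card d.tr3.range = 3 := by
    have hdvd : Nat.card d.tr3.range ∣ 3 := by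
      have := Subgroup.card_subgroup_dvd_card d.tr3.range
      simpa using this
    rcases (Nat.dvd_prime Nat.prime_three).1 hdvd with h | h
    · exact absurd (Subgroup.mem_bot.1 ((Subgroup.card_eq_one.1 h).le ⟨_, rfl⟩)) (d.tr3_U hU2)
    · exact h
  rw [Subgroup.index_ker, hr2] at h2
  rw [Subgroup.index_ker, hr3] at h3
  rw [← h2, show Nat.card d.tr2.ker = Nat.card d.X2 from rfl, ← h3, X3,
    Subgroup.card_map_of_injective d.X2.subtype_injective]
  ring

theorem card_XG : ∃ i, ¬ 2 ∣ i ∧ Nat.card d.XG = 4608 * i := by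
  refine ⟨d.HX.relIndex d.XG, d.relIndex_HX.1, ?_⟩
  have hc := Subgroup.relIndex_mul_relIndex (⊥ : Subgroup G) d.HX d.XG bot_le d.HX_le
  rw [Subgroup.relIndex_bot_left, Subgroup.relIndex_bot_left, d.card_HX] at hc
  exact hc.symm

/-- The involution as an element of the subgroup of index six. -/
noncomputable def tX : d.X3 :=
  ⟨d.ξ ⟨xT, xT_mem⟩, d.ξ_mem_X3.2 (by show pu (enc xT) = _; rw [show enc xT = cT from enc_mk _ _]; decide +kernel)⟩

/-- The element of order three as an element of the subgroup of index six. -/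
noncomputable def fX : d.X3 :=
  ⟨d.ξ ⟨xL, xL_mem⟩, d.ξ_mem_X3.2 (by show pu (enc xL) = _; rw [show enc xL = eL from enc_mk _ _]; decide +kernel)⟩

/-- The subgroup of index six inside the ambient group. -/
noncomputable def ιX : d.X3 →* G := d.XG.subtype.comp d.X3.subtype

theorem ιX_inj : Function.Injective d.ιX := d.XG.subtype_injective.comp d.X3.subtype_injective

theorem ιX_apply (z : d.X3) : d.ιX z = ((z : d.XG) : G) := rfl

theorem ιX_tX : d.ιX d.tX = d.φ xT := rfl

theorem ιX_fX : d.ιX d.fX = d.φ xL := rfl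

theorem tX_sq : d.tX * d.tX = 1 := d.ιX_inj (by rw [map_mul, ιX_tX, ← map_mul, xT_invol, map_one, map_one])

theorem fX_cube : d.fX ^ 3 = 1 := d.ιX_inj (by rw [map_pow, ιX_fX, ← map_pow, levi_rel.1, map_one, map_one])

theorem tX_ne : d.tX ≠ 1 := fun h => by
  have h1 : d.φ xT = d.φ 1 := by rw [← ιX_tX, h, map_one, map_one]
  have := congrArg enc (d.inj h1)
  rw [xT, enc_mk, enc_one] at this
  revert this
  decide +kernel

theorem tX_central (g : d.X3) : g * d.tX = d.tX * g := d.ιX_inj (by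
  rw [map_mul, map_mul, ιX_tX]
  exact d.mem_XG.1 (g : d.XG).2)

theorem tX_zpowers_normal : (Subgroup.zpowers d.tX).Normal := ⟨fun n hn g => by
  obtain ⟨k, rfl⟩ := Subgroup.mem_zpowers_iff.1 hn
  rw [((show Commute g d.tX from d.tX_central g).zpow_right k).eq, mul_inv_cancel_right]
  exact hn⟩

theorem tX_zpowers (z : d.X3) : z ∈ Subgroup.zpowers d.tX ↔ z = 1 ∨ z = d.tX := by
  constructor
  · intro h
    obtain ⟨k, rfl⟩ := Subgroup.mem_zpowers_iff.1 h
    rcases Int.even_or_odd' k with ⟨m, rfl | rfl⟩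
    · left; rw [zpow_mul, zpow_two, d.tX_sq, one_zpow]
    · right; rw [zpow_add, zpow_mul, zpow_two, d.tX_sq, one_zpow, one_mul, zpow_one]
  · rintro (rfl | rfl)
    · exact one_mem _
    · exact Subgroup.mem_zpowers _

theorem card_tX : Nat.card (Subgroup.zpowers d.tX) = 2 := by
  haveI : Fact (Nat.Prime 2) := ⟨Nat.prime_two⟩
  rw [Nat.card_zpowers]
  exact orderOf_eq_prime (by rw [pow_two, d.tX_sq]) d.tX_ne

/-- An element of the subgroup of index six commuting with the element of order three. -/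
theorem cent_fX {g : d.X3} (h : g * d.fX = d.fX * g) :
    ∃ j : ℕ, g = d.fX ^ j ∨ g = d.tX * d.fX ^ j := by
  have hg : d.ιX g * d.φ xL = d.φ xL * d.ιX g := by rw [← ιX_fX, ← map_mul, h, map_mul]
  have hg' : ((g : d.XG) : G) * d.φ xL = d.φ xL * ((g : d.XG) : G) := by rwa [ιX_apply] at hg
  obtain ⟨x, hx, hxg⟩ := d.of_mem_XG (g : d.XG).2 (d.mem_range_of_commute order_xL hg')
  have hxg' : d.φ x = d.ιX g := hxg.trans (d.ιX_apply g).symm
  have hgx : (g : d.XG) = d.ξ ⟨x, hx⟩ := Subtype.ext hxg.symm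
  have hp : pu (enc x) = (4, 32) := (d.ξ_mem_X3 (x := ⟨x, hx⟩)).1 (by rw [← hgx]; exact g.2)
  have hc := xh_check (mem_XT.1 hx)
  simp only [xhCheck, Bool.and_eq_true] at hc
  obtain ⟨⟨-, e⟩, -⟩ := hc
  rw [hp] at e
  simp only [beq_self_eq_true, Bool.not_true, Bool.false_or, Bool.and_eq_true] at e
  obtain ⟨⟨-, e⟩, -⟩ := e
  have hcom : commB (enc x) eL = true := by
    have := commB_of_commute (x := x) (y := xL) (d.inj (by rw [map_mul, map_mul, hxg']; exact hg))
    rwa [xL, enc_mk] at this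
  rw [hcom, Bool.not_true, Bool.false_or, List.contains_iff_mem] at e
  have pj : ∀ k : ℕ, enc x = enc (xL ^ k) → g = d.fX ^ k := fun k hk => d.ιX_inj (by
    rw [← hxg', enc_inj hk, map_pow, map_pow, ιX_fX])
  have qj : ∀ k : ℕ, enc x = enc (xT * xL ^ k) → g = d.tX * d.fX ^ k := fun k hk => d.ιX_inj (by
    rw [← hxg', enc_inj hk, map_mul, map_mul, map_pow, map_pow, ιX_fX, ιX_tX])
  have eT : enc xT = cT := enc_mk _ _
  have eeL : enc xL = SpSix.eL := enc_mk _ _
  simp only [List.mem_cons, List.not_mem_nil, or_false] at e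
  rcases e with e | e | e | e | e | e
  · exact ⟨0, Or.inl (pj 0 (by rw [pow_zero, enc_one, e]))⟩
  · exact ⟨0, Or.inr (qj 0 (by rw [pow_zero, mul_one, eT, e]))⟩
  · exact ⟨1, Or.inl (pj 1 (by rw [pow_one, eeL, e]))⟩
  · exact ⟨2, Or.inl (pj 2 (by rw [pow_two, enc_mul, eeL, e]))⟩
  · exact ⟨1, Or.inr (qj 1 (by rw [pow_one, enc_mul, eT, eeL, e]))⟩
  · exact ⟨2, Or.inr (qj 2 (by rw [pow_two, enc_mul, enc_mul, eT, eeL, e]))⟩

/-- The group generated by the two rotations. -/
def EG : Subgroup G := (Subgroup.closure ({xL, xU} : Set Sp)).map d.φ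

theorem EG_cases {g : G} (hg : g ∈ d.EG) : ∃ i j : ℕ, g = d.φ (xL ^ i * xU ^ j) := by
  obtain ⟨x, hx, rfl⟩ := hg
  obtain ⟨i, j, rfl⟩ := AA_cases hx
  exact ⟨i, j, rfl⟩

theorem EG_comm : IsMulCommutative d.EG := ⟨⟨fun a b => Subtype.ext (by
  obtain ⟨i, j, e⟩ := d.EG_cases a.2
  obtain ⟨i', j', e'⟩ := d.EG_cases b.2
  show (a : G) * b = b * a
  rw [e, e', ← map_mul, ← map_mul, levi_comm i j i' j'])⟩⟩

theorem EG_cube {g : G} (hg : g ∈ d.EG) : g ^ 3 = 1 := by
  obtain ⟨i, j, rfl⟩ := d.EG_cases hg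
  rw [← map_pow, levi_cube, map_one]

theorem EG_mem : d.φ xL ∈ d.EG ∧ d.φ xU ∈ d.EG :=
  ⟨⟨xL, Subgroup.subset_closure (Or.inl rfl), rfl⟩, ⟨xU, Subgroup.subset_closure (Or.inr rfl), rfl⟩⟩

theorem EG_not_cyclic : ¬ IsCyclic d.EG := fun h => by
  obtain ⟨g, hg⟩ := h.exists_generator
  have h3 : Nat.card d.EG ∣ 3 := by
    rw [← Subgroup.card_top (G := d.EG), ← (Subgroup.eq_top_iff' (Subgroup.zpowers g)).2 hg, Nat.card_zpowers]
    exact orderOf_dvd_of_pow_eq_one (Subtype.ext (d.EG_cube g.2))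
  have hz : Subgroup.zpowers (d.φ xL) = d.EG := Subgroup.eq_of_le_of_card_ge (Subgroup.zpowers_le.2 d.EG_mem.1) (by
    rw [Nat.card_zpowers, d.orderOf_φ, order_xL]; exact Nat.le_of_dvd (by norm_num) h3)
  have hU := d.EG_mem.2
  rw [← hz] at hU
  obtain ⟨k, hk⟩ := Subgroup.mem_zpowers_iff.1 hU
  rw [← map_zpow] at hk
  have e := d.inj hk
  obtain ⟨i, hi⟩ : ∃ i : ℕ, xL ^ k = xL ^ i := ⟨(k % 3).toNat, by
    rw [← zpow_natCast, Int.toNat_of_nonneg (Int.emod_nonneg _ (by norm_num))]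
    exact zpow_eq_zpow_emod' k levi_rel.1⟩
  rw [hi] at e
  have := levi_free (i := i) (j := 2) (by rw [e, ← pow_succ', levi_rel.2.1]; exact KK.one_mem)
  omega

/-- A subgroup in the ambient group of a subgroup of the subgroup of index six. -/
noncomputable def up (M : Subgroup d.X3) : Subgroup G := M.map d.ιX

theorem card_up (M : Subgroup d.X3) : Nat.card (d.up M) = Nat.card M :=
  Subgroup.card_map_of_injective d.ιX_inj

theorem mem_up {M : Subgroup d.X3} {g : G} : g ∈ d.up M ↔ ∃ z ∈ M, d.ιX z = g := Iff.rfl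

theorem conj_U_mem (g : d.X3) : d.ξ ⟨xU, xU_mem⟩ * (g : d.XG) * (d.ξ ⟨xU, xU_mem⟩)⁻¹ ∈ d.X3 :=
  conj_mem_map_ker d.tr3 ((d.mem_X2 _).2 (by rw [pu_levi.1]; decide +kernel)) g.2

/-- Conjugation by the rotation. -/
noncomputable def cU : MulAut d.X3 := conjAut d.X3 (d.ξ ⟨xU, xU_mem⟩) d.conj_U_mem

theorem ιX_cU (z : d.X3) : d.ιX (d.cU z) = d.φ xU * d.ιX z * (d.φ xU)⁻¹ := by
  show d.XG.subtype ((d.cU z : d.X3) : d.XG) = _
  rw [cU, conjAut_coe, map_mul, map_mul, map_inv]
  rfl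

theorem EG_le_normalizer {M : Subgroup d.X3} [M.Normal]
    (hU : ∀ g ∈ M, d.cU g ∈ M) : d.EG ≤ Subgroup.normalizer (d.up M : Set G) := by
  intro g hg
  obtain ⟨i, j, rfl⟩ := d.EG_cases hg
  have key : ∀ y : G, (∀ g ∈ d.up M, y * g * y⁻¹ ∈ d.up M) → y ∈ Subgroup.normalizer (d.up M : Set G) :=
    fun y hy => by
      rw [Subgroup.mem_normalizer_iff_map_conj_eq]
      refine Subgroup.eq_of_le_of_card_ge ?_
        (le_of_eq (Subgroup.card_map_of_injective (MulEquiv.injective (MulAut.conj y))).symm)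
      rintro _ ⟨g, hg, rfl⟩
      exact hy g hg
  have hL : d.φ xL ∈ Subgroup.normalizer (d.up M : Set G) := key _ fun g hg => by
    obtain ⟨z, hz, rfl⟩ := d.mem_up.1 hg
    exact d.mem_up.2 ⟨d.fX * z * d.fX⁻¹, Subgroup.Normal.conj_mem inferInstance z hz _,
      by rw [map_mul, map_mul, map_inv, ιX_fX]⟩
  have hU' : d.φ xU ∈ Subgroup.normalizer (d.up M : Set G) := key _ fun g hg => by
    obtain ⟨z, hz, rfl⟩ := d.mem_up.1 hg
    exact d.mem_up.2 ⟨d.cU z, hU z hz, d.ιX_cU z⟩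
  rw [map_mul, map_pow, map_pow]
  exact mul_mem (pow_mem hL i) (pow_mem hU' j)

theorem up_le_range {M : Subgroup d.X3} [M.Normal] (hM : (Nat.card M).Coprime 3)
    (hU : ∀ g ∈ M, d.cU g ∈ M) : d.up M ≤ d.φ.range := by
  haveI := d.EG_comm
  have hcop : (Nat.card d.EG).Coprime (Nat.card (d.up M)) := by
    haveI : Fact (Nat.Prime 3) := ⟨Nat.prime_three⟩
    obtain ⟨n, hn⟩ := IsPGroup.iff_card.1 (show IsPGroup 3 d.EG from fun g =>
      ⟨1, Subtype.ext (by rw [SubgroupClass.coe_pow, pow_one]; exact d.EG_cube g.2)⟩)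
    rw [hn, d.card_up]
    exact Nat.Coprime.pow_left _ hM.symm
  conv_lhs => rw [← Cfsg.Agent.S0058.result d.EG (d.up M) d.EG_not_cyclic (d.EG_le_normalizer hU) hcop]
  refine iSup₂_le fun a ha n hn => ?_
  obtain ⟨ha', ha1⟩ := ha
  have hca := Subgroup.mem_centralizer_singleton_iff.1 (Subgroup.mem_inf.1 hn).2
  obtain ⟨i, j, e⟩ := d.EG_cases ha'
  haveI : Fact (Nat.Prime 3) := ⟨Nat.prime_three⟩
  refine d.mem_range_of_commute (y := xL ^ i * xU ^ j) ?_ (by rw [← e]; exact hca)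
  exact orderOf_eq_prime (levi_cube i j) fun e' => ha1 (by rw [e, e', map_one])

/-- A normal subgroup of order prime to three invariant under the rotation lies in the radical. -/
theorem small_normal {M : Subgroup d.X3} [M.Normal] (hM : (Nat.card M).Coprime 3)
    (hU : ∀ g ∈ M, d.cU g ∈ M) : Nat.card M ≤ 128 := by
  have hx : ∀ z ∈ M, ∃ x : Sp, d.φ x = ((z : d.XG) : G) ∧ x ∈ MM ∧ x ^ 256 = 1 := by
    intro z hz
    obtain ⟨x, hx, e⟩ := d.of_mem_XG (z : d.XG).2 (d.up_le_range hM hU (d.mem_up.2 ⟨z, hz, d.ιX_apply z⟩))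
    have hgx : (z : d.XG) = d.ξ ⟨x, hx⟩ := Subtype.ext e.symm
    have hp : pu (enc x) = (4, 32) := (d.ξ_mem_X3 (x := ⟨x, hx⟩)).1 (by rw [← hgx]; exact z.2)
    refine ⟨x, e, mem_MM.2 ⟨hx, hp⟩, ?_⟩
    have h768 : orderOf x ∣ 768 := by
      rw [← card_MM]
      have h := orderOf_dvd_natCard (⟨x, mem_MM.2 ⟨hx, hp⟩⟩ : MM)
      rwa [Subgroup.orderOf_mk] at h
    have hm : orderOf x ∣ Nat.card M := by
      have h := orderOf_dvd_natCard (⟨z, hz⟩ : M)
      rw [Subgroup.orderOf_mk, ← Subgroup.orderOf_coe z, ← Subgroup.orderOf_coe (z : d.XG), ← e, d.orderOf_φ] at h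
      exact h
    exact orderOf_dvd_iff_pow_eq_one.1
      ((Nat.Coprime.coprime_dvd_left hm hM).dvd_of_dvd_mul_right (show orderOf x ∣ 256 * 3 from h768))
  have hsub : d.up M ≤ KK.map d.φ := by
    intro g hg
    obtain ⟨z, hz, rfl⟩ := d.mem_up.1 hg
    obtain ⟨x, e, hxM, hx256⟩ := hx z hz
    obtain ⟨hxT, hxp⟩ := mem_MM.1 hxM
    refine ⟨x, mem_KK.2 ⟨hxT, ?_⟩, e⟩
    obtain ⟨w, ew, -, hw256⟩ := hx _ (M.mul_mem hz (Subgroup.Normal.conj_mem inferInstance z hz d.fX))
    have hLinv : xL⁻¹ = xL * xL := inv_eq_of_mul_eq_one_right (by rw [← levi_rel.1, pow_three])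
    have hw : w = x * xL * x * (xL * xL) := d.inj (by
      rw [ew, ← hLinv, map_mul, map_mul, map_mul, map_inv, Subgroup.coe_mul, Subgroup.coe_mul, Subgroup.coe_mul,
        Subgroup.coe_mul, Subgroup.coe_mul, Subgroup.coe_mul, Subgroup.coe_inv, Subgroup.coe_inv, ← d.ιX_fX, ιX_apply, e]
      simp only [mul_assoc])
    subst hw
    have hc := xh_check (mem_XT.1 hxT)
    simp only [xhCheck, Bool.and_eq_true] at hc
    obtain ⟨⟨-, e'⟩, -⟩ := hc
    rw [hxp] at e'
    simp only [beq_self_eq_true, Bool.not_true, Bool.false_or, Bool.and_eq_true] at e'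
    have e3 := e'.2
    rw [sq8_pow, hx256] at e3
    rw [show cm (cm (cm (enc x) SpSix.eL) (enc x)) (cm SpSix.eL SpSix.eL) = enc (x * xL * x * (xL * xL)) by
      rw [enc_mul, enc_mul, enc_mul, enc_mul, show enc xL = SpSix.eL from enc_mk _ _], sq8_pow, hw256, enc_one] at e3
    simpa using e3
  rw [← d.card_up]
  refine le_trans (Nat.le_of_dvd Nat.card_pos (Subgroup.card_dvd_of_le hsub)) ?_
  rw [Subgroup.card_map_of_injective d.inj]
  exact card_KK.le

/-- The centraliser of `t` lies in the copy. -/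
theorem XG_le_range : d.XG ≤ d.φ.range := by
  haveI := d.tX_zpowers_normal
  haveI : Fact (Nat.Prime 3) := ⟨Nat.prime_three⟩
  obtain ⟨i, hi, hXG⟩ := d.card_XG
  have h6 := d.card_X3
  let π : d.X3 →* d.X3 ⧸ Subgroup.zpowers d.tX := QuotientGroup.mk' _
  have hπ : Function.Surjective π := QuotientGroup.mk'_surjective _
  have hker : ∀ z, π z = 1 ↔ z = 1 ∨ z = d.tX := fun z =>
    (QuotientGroup.eq_one_iff z).trans (d.tX_zpowers z)
  have hQ : Nat.card d.X3 = 2 * Nat.card (d.X3 ⧸ Subgroup.zpowers d.tX) := by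
    rw [Subgroup.card_eq_card_quotient_mul_card_subgroup (Subgroup.zpowers d.tX), d.card_tX, mul_comm]
  have hQi : Nat.card (d.X3 ⧸ Subgroup.zpowers d.tX) = 384 * i := by omega
  have hfne : d.fX ≠ 1 ∧ d.fX ≠ d.tX := by
    constructor <;> intro h <;> have e := congrArg d.ιX h
    · rw [ιX_fX, map_one, ← map_one d.φ] at e
      have := congrArg orderOf (d.inj e)
      rw [order_xL, orderOf_one] at this
      omega
    · rw [ιX_fX, ιX_tX] at e
      have h2 : orderOf xL ∣ 2 := orderOf_dvd_of_pow_eq_one (by rw [d.inj e, pow_two, xT_invol])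
      rw [order_xL] at h2
      omega
  have hx : orderOf (π d.fX) = 3 := orderOf_eq_prime (by rw [← map_pow, d.fX_cube, map_one])
    fun h => ((hker _).1 h).elim hfne.1 hfne.2
  have hc : ∀ q, q * π d.fX = π d.fX * q → q ∈ Subgroup.zpowers (π d.fX) := by
    intro q hq
    obtain ⟨g, rfl⟩ := hπ q
    have hz : π ((d.fX * g)⁻¹ * (g * d.fX)) = 1 := by
      rw [map_mul, map_inv, map_mul, map_mul, hq, inv_mul_cancel]
    rcases (hker _).1 hz with h | h
    · obtain ⟨j, e | e⟩ := d.cent_fX (inv_mul_eq_one.1 h).symm <;> rw [e]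
      · rw [map_pow]
        exact pow_mem (Subgroup.mem_zpowers _) j
      · rw [map_mul, (hker _).2 (Or.inr rfl), one_mul, map_pow]
        exact pow_mem (Subgroup.mem_zpowers _) j
    · exfalso
      have e : g * d.fX * g⁻¹ = d.fX * d.tX := by
        rw [inv_mul_eq_iff_eq_mul.1 h, mul_assoc d.fX g, d.tX_central g, ← mul_assoc, mul_inv_cancel_right]
      have e3 : (d.fX * d.tX) ^ 3 = 1 := by rw [← e, conj_pow, d.fX_cube, mul_one, mul_inv_cancel]
      rw [(show Commute d.fX d.tX from d.tX_central d.fX).mul_pow, d.fX_cube, one_mul, pow_succ, pow_two,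
        d.tX_sq, one_mul] at e3
      exact d.tX_ne e3
  have hle : Nat.card d.XG ≤ 4608 := by
    rcases Cfsg.Agent.S3331.result (Subgroup.zpowers (π d.fX)) (by rw [Nat.card_zpowers, hx]) (by
        refine le_antisymm (fun q hq => hc q ?_) (fun q hq => Subgroup.mem_centralizer_iff.2 fun w hw => ?_)
        · exact (Subgroup.mem_centralizer_iff.1 hq _ (Subgroup.mem_zpowers _)).symm
        · obtain ⟨a, rfl⟩ := Subgroup.mem_zpowers_iff.1 hq
          obtain ⟨b, rfl⟩ := Subgroup.mem_zpowers_iff.1 hw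
          exact ((Commute.refl (π d.fX)).zpow_zpow b a).eq) with
      ⟨N, hN, -, hco, hq⟩ | ⟨N, hN, -, hN2, ⟨e⟩⟩ | ⟨⟨e⟩⟩
    · haveI := hN
      let M := N.comap π
      haveI : M.Normal := hN.comap π
      have hidx : M.index = N.index := Subgroup.index_comap_of_surjective _ hπ
      have hq' : Nat.card (d.X3 ⧸ M) = 3 ∨ Nonempty (d.X3 ⧸ M ≃* Equiv.Perm (Fin 3)) := by
        rcases hq with h | ⟨⟨e⟩⟩
        · exact Or.inl (hidx.trans h)
        · refine Or.inr ⟨(QuotientGroup.quotientMulEquivOfEq ?_).trans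
            ((QuotientGroup.quotientKerEquivOfSurjective ((QuotientGroup.mk' N).comp π)
              ((QuotientGroup.mk'_surjective N).comp hπ)).trans e)⟩
          rw [← MonoidHom.comap_ker, QuotientGroup.ker_mk']
      have hN6 : N.index ≤ 6 := by
        rcases hq with h | ⟨⟨e⟩⟩
        · exact h.le.trans (by norm_num)
        · refine le_of_eq ((Nat.card_congr e.toEquiv).trans ?_)
          rw [Nat.card_perm, Nat.card_fin]
          rfl
      have hM : Nat.card M = 2 * Nat.card N := by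
        have h1 := M.card_mul_index
        have h2 := N.card_mul_index
        rw [hidx] at h1
        refine Nat.eq_of_mul_eq_mul_right (Nat.pos_of_ne_zero (Subgroup.index_ne_zero_of_finite (H := N))) ?_
        rw [h1, mul_assoc, h2, hQ]
      have hMco : (Nat.card M).Coprime 3 := by rw [hM]; exact Nat.Coprime.mul_left (by norm_num) hco
      haveI : (M.map d.cU.toMonoidHom).Normal := Subgroup.Normal.map inferInstance _ d.cU.surjective
      have hinv := PSpFourThreeAmalgam.le_of_small_quotient hq' (M := M.map d.cU.toMonoidHom)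
        (by rw [Subgroup.card_map_of_injective d.cU.injective]; exact hMco)
      have h128 := d.small_normal hMco fun g hg => hinv ⟨g, hg, rfl⟩
      have h768 : Nat.card d.X3 ≤ 768 := by
        rw [← M.card_mul_index, hidx]
        exact (Nat.mul_le_mul h128 hN6).trans (by norm_num)
      omega
    · exfalso
      haveI := hN
      have hcard : Nat.card N * 60 = 384 * i := by
        rw [← hQi, ← N.card_mul_index]
        congr 1
        exact ((Nat.card_congr e.toEquiv).trans (by rw [nat_card_alternatingGroup, Nat.card_fin]; rfl)).symm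
      obtain ⟨k, hk⟩ := IsPGroup.iff_card.1 (show IsPGroup 2 N from fun n =>
        ⟨1, Subtype.ext (by rw [SubgroupClass.coe_pow, pow_one]; exact hN2 n n.2)⟩)
      rw [hk] at hcard
      have hk5 : k = 5 := by
        rcases lt_trichotomy k 5 with h | h | h
        · exfalso
          interval_cases k <;> omega
        · exact h
        · exfalso
          obtain ⟨m, rfl⟩ : ∃ m, k = 6 + m := ⟨k - 6, by omega⟩
          rw [pow_add] at hcard
          apply hi
          omega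
      exact no_fpf_three N (by rw [hk, hk5]; norm_num) (π d.fX) hx hc
    · exfalso
      have h := (Nat.card_congr e.toEquiv).trans PSpFourThreeAmalgam.card_psl_seven
      omega
  have h := Subgroup.eq_of_le_of_card_ge d.HX_le (by rw [d.card_HX]; exact hle)
  rw [← h]
  rintro _ ⟨x, -, rfl⟩
  exact ⟨x, rfl⟩

end Emb

end Cfsg.Agent.Lie.PSpFourThreeFull.SpSix
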