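import Mathlib

/-!
`Sp₆(2)` on six-bit codes: a vector is a number below `64`, a matrix the list of the codes of its rows.
-/

set_option autoImplicit false

namespace Cfsg.Agent.Lie.PSpFourThreeFull.SpSix

open Matrix

/-- The group. -/
abbrev Sp : Type := Matrix.symplecticGroup (Fin 3) (ZMod 2)

/-- Row vectors. -/
abbrev Vec : Type := Fin 3 ⊕ Fin 3 → ZMod 2

/-- Position of a coordinate. -/
def pos : Fin 3 ⊕ Fin 3 → Fin 6 := Sum.elim (fun i => ⟨i.val, by omega⟩) fun i => ⟨i.val + 3, by omega⟩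

/-- Coordinate at a position. -/
def idx : Fin 6 → Fin 3 ⊕ Fin 3 :=
  ![Sum.inl 0, Sum.inl 1, Sum.inl 2, Sum.inr 0, Sum.inr 1, Sum.inr 2]

theorem pos_idx : ∀ k, pos (idx k) = k := by decide

theorem idx_pos : ∀ k, idx (pos k) = k := by decide

/-- A bit of a scalar. -/
def bit (x : ZMod 2) (k : ℕ) : ℕ := if x = 1 then 2 ^ k else 0

/-- Code of six scalars. -/
def code6 (a b c d e f : ZMod 2) : ℕ :=
  bit a 0 + bit b 1 + bit c 2 + bit d 3 + bit e 4 + bit f 5

/-- Code of a vector. -/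
def code (v : Vec) : ℕ := code6 (v (idx 0)) (v (idx 1)) (v (idx 2)) (v (idx 3)) (v (idx 4)) (v (idx 5))

theorem code6_xor : ∀ a b c d e f a' b' c' d' e' f' : ZMod 2,
    code6 (a + a') (b + b') (c + c') (d + d') (e + e') (f + f') =
      code6 a b c d e f ^^^ code6 a' b' c' d' e' f' := by decide +kernel

theorem code_add (v w : Vec) : code (v + w) = code v ^^^ code w := code6_xor _ _ _ _ _ _ _ _ _ _ _ _

/-- A bit of a number as a number. -/
def bv (x k : ℕ) : ℕ := Nat.land (Nat.shiftRight x k) 1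

/-- A scalar as a number. -/
def sc (a : ZMod 2) : ℕ := if a = 1 then 1 else 0

theorem code6_bit : ∀ a b c d e f : ZMod 2, code6 a b c d e f < 64 ∧
    bv (code6 a b c d e f) 0 = sc a ∧ bv (code6 a b c d e f) 1 = sc b ∧ bv (code6 a b c d e f) 2 = sc c ∧
    bv (code6 a b c d e f) 3 = sc d ∧ bv (code6 a b c d e f) 4 = sc e ∧ bv (code6 a b c d e f) 5 = sc f := by
  decide +kernel

theorem code_lt (v : Vec) : code v < 64 := (code6_bit _ _ _ _ _ _).1

theorem code_bv (v : Vec) (k : Fin 6) : bv (code v) k.val = sc (v (idx k)) := by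
  obtain ⟨-, h0, h1, h2, h3, h4, h5⟩ :=
    code6_bit (v (idx 0)) (v (idx 1)) (v (idx 2)) (v (idx 3)) (v (idx 4)) (v (idx 5))
  fin_cases k
  exacts [h0, h1, h2, h3, h4, h5]

theorem zmod_two_eq : ∀ a b : ZMod 2, sc a = sc b → a = b := by decide

theorem code_inj {v w : Vec} (h : code v = code w) : v = w := funext fun i => by
  refine zmod_two_eq _ _ ?_
  rw [← idx_pos i, ← code_bv, ← code_bv, h]

/-- The vector with a given code. -/
def vec (n : ℕ) : Vec := fun i => (bv n (pos i).val : ZMod 2)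

theorem code_vec : ∀ n < 64, code (vec n) = n := by decide +kernel

/-- A row of a coded matrix. -/
def row (a k : ℕ) : ℕ := Nat.land (Nat.shiftRight a (Nat.mul 6 k)) 63

/-- Six rows in one number. -/
def pack (r0 r1 r2 r3 r4 r5 : ℕ) : ℕ :=
  Nat.add r0 (Nat.mul 64 (Nat.add r1 (Nat.mul 64 (Nat.add r2 (Nat.mul 64 (Nat.add r3 (Nat.mul 64
    (Nat.add r4 (Nat.mul 64 r5)))))))))

theorem row_eq (a k : ℕ) : row a k = a / 2 ^ (6 * k) % 64 := by
  show (a >>> (6 * k)) &&& (2 ^ 6 - 1) = _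
  rw [Nat.and_two_pow_sub_one_eq_mod, Nat.shiftRight_eq_div_pow]

theorem row_lt (a k : ℕ) : row a k < 64 := by rw [row_eq]; exact Nat.mod_lt _ (by norm_num)

theorem row_pack {r0 r1 r2 r3 r4 r5 : ℕ} (h0 : r0 < 64) (h1 : r1 < 64) (h2 : r2 < 64) (h3 : r3 < 64)
    (h4 : r4 < 64) (h5 : r5 < 64) :
    row (pack r0 r1 r2 r3 r4 r5) 0 = r0 ∧ row (pack r0 r1 r2 r3 r4 r5) 1 = r1 ∧
    row (pack r0 r1 r2 r3 r4 r5) 2 = r2 ∧ row (pack r0 r1 r2 r3 r4 r5) 3 = r3 ∧
    row (pack r0 r1 r2 r3 r4 r5) 4 = r4 ∧ row (pack r0 r1 r2 r3 r4 r5) 5 = r5 := by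
  simp only [row_eq, pack, Nat.add_eq, Nat.mul_eq]
  norm_num
  omega

theorem pack_row {a : ℕ} (h : a < 2 ^ 36) :
    pack (row a 0) (row a 1) (row a 2) (row a 3) (row a 4) (row a 5) = a := by
  simp only [row_eq, pack, Nat.add_eq, Nat.mul_eq]
  norm_num at h ⊢
  omega

/-- Image of a coded vector. -/
def act (x a : ℕ) : ℕ :=
  Nat.xor (Nat.xor (Nat.xor (Nat.xor (Nat.xor (Nat.mul (bv x 0) (row a 0)) (Nat.mul (bv x 1) (row a 1)))
    (Nat.mul (bv x 2) (row a 2))) (Nat.mul (bv x 3) (row a 3))) (Nat.mul (bv x 4) (row a 4)))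
    (Nat.mul (bv x 5) (row a 5))

/-- Product of coded matrices. -/
def cm (a b : ℕ) : ℕ :=
  pack (act (row a 0) b) (act (row a 1) b) (act (row a 2) b) (act (row a 3) b) (act (row a 4) b) (act (row a 5) b)

/-- The coded identity. -/
def cid : ℕ := pack 1 2 4 8 16 32

/-- Code of a matrix. -/
def encM (A : Matrix (Fin 3 ⊕ Fin 3) (Fin 3 ⊕ Fin 3) (ZMod 2)) : ℕ :=
  pack (code (A (idx 0))) (code (A (idx 1))) (code (A (idx 2))) (code (A (idx 3))) (code (A (idx 4))) (code (A (idx 5)))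

theorem encM_row (A : Matrix (Fin 3 ⊕ Fin 3) (Fin 3 ⊕ Fin 3) (ZMod 2)) (k : Fin 6) :
    row (encM A) k.val = code (A (idx k)) := by
  obtain ⟨h0, h1, h2, h3, h4, h5⟩ := row_pack (code_lt (A (idx 0))) (code_lt (A (idx 1))) (code_lt (A (idx 2)))
    (code_lt (A (idx 3))) (code_lt (A (idx 4))) (code_lt (A (idx 5)))
  fin_cases k
  exacts [h0, h1, h2, h3, h4, h5]

theorem code_smul (c : ZMod 2) (w : Vec) : code (c • w) = Nat.mul (sc c) (code w) := by
  rcases (by decide : ∀ c : ZMod 2, c = 0 ∨ c = 1) c with rfl | rfl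
  · rw [zero_smul]; exact (Nat.zero_mul _).symm
  · rw [one_smul]; exact (Nat.one_mul _).symm

theorem vecMul_eq (v : Vec) (A : Matrix (Fin 3 ⊕ Fin 3) (Fin 3 ⊕ Fin 3) (ZMod 2)) :
    v ᵥ* A = v (idx 0) • A (idx 0) + v (idx 1) • A (idx 1) + v (idx 2) • A (idx 2) + v (idx 3) • A (idx 3)
      + v (idx 4) • A (idx 4) + v (idx 5) • A (idx 5) := by
  funext j
  simp only [Matrix.vecMul, dotProduct, Pi.add_apply, Pi.smul_apply, smul_eq_mul, Fintype.sum_sum_type,
    Fin.sum_univ_three]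
  show _ = v (Sum.inl 0) * A (Sum.inl 0) j + v (Sum.inl 1) * A (Sum.inl 1) j + v (Sum.inl 2) * A (Sum.inl 2) j +
    v (Sum.inr 0) * A (Sum.inr 0) j + v (Sum.inr 1) * A (Sum.inr 1) j + v (Sum.inr 2) * A (Sum.inr 2) j
  ring

theorem act_encM (v : Vec) (A : Matrix (Fin 3 ⊕ Fin 3) (Fin 3 ⊕ Fin 3) (ZMod 2)) :
    act (code v) (encM A) = code (v ᵥ* A) := by
  rw [vecMul_eq, code_add, code_add, code_add, code_add, code_add]
  simp only [code_smul]
  rw [← code_bv v 0, ← code_bv v 1, ← code_bv v 2, ← code_bv v 3, ← code_bv v 4, ← code_bv v 5,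
    ← encM_row A 0, ← encM_row A 1, ← encM_row A 2, ← encM_row A 3, ← encM_row A 4, ← encM_row A 5]
  rfl

theorem encM_mul (A B : Matrix (Fin 3 ⊕ Fin 3) (Fin 3 ⊕ Fin 3) (ZMod 2)) :
    encM (A * B) = cm (encM A) (encM B) := by
  have h : ∀ k : Fin 6, act (row (encM A) k.val) (encM B) = code ((A * B) (idx k)) := fun k => by
    rw [encM_row, act_encM]; rfl
  show pack _ _ _ _ _ _ = pack _ _ _ _ _ _
  rw [← h 0, ← h 1, ← h 2, ← h 3, ← h 4, ← h 5]
  rfl

theorem encM_one : encM 1 = cid := by decide +kernel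

theorem encM_inj {A B : Matrix (Fin 3 ⊕ Fin 3) (Fin 3 ⊕ Fin 3) (ZMod 2)} (h : encM A = encM B) : A = B := by
  funext i
  refine code_inj ?_
  rw [← idx_pos i, ← encM_row, ← encM_row, h]

/-- Code of a group element. -/
def enc (x : Sp) : ℕ := encM x.1

theorem enc_mul (x y : Sp) : enc (x * y) = cm (enc x) (enc y) := encM_mul _ _

theorem enc_one : enc 1 = cid := encM_one

theorem enc_inj {x y : Sp} (h : enc x = enc y) : x = y := Subtype.ext (encM_inj h)

theorem act_act (n : ℕ) (hn : n < 64) (x y : Sp) : act (act n (enc x)) (enc y) = act n (enc (x * y)) := by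
  rw [← code_vec n hn]
  show act (act _ (encM x.1)) (encM y.1) = act _ (encM (x * y : Sp).1)
  rw [act_encM, act_encM, act_encM, Matrix.vecMul_vecMul]
  rfl

theorem act_lt (n : ℕ) (hn : n < 64) (x : Sp) : act n (enc x) < 64 := by
  rw [← code_vec n hn]
  show act _ (encM x.1) < 64
  rw [act_encM]
  exact code_lt _

theorem act_xor (m n : ℕ) (hm : m < 64) (hn : n < 64) (x : Sp) :
    act (m ^^^ n) (enc x) = act m (enc x) ^^^ act n (enc x) := by
  rw [← code_vec n hn, ← code_vec m hm, ← code_add]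
  show act _ (encM x.1) = act _ (encM x.1) ^^^ act _ (encM x.1)
  rw [act_encM, act_encM, act_encM, Matrix.add_vecMul, code_add]

/-- The alternating form on codes. -/
def form (x y : ℕ) : Bool :=
  Nat.beq (Nat.land (Nat.shiftRight 150
    (Nat.land (Nat.xor (Nat.land x (Nat.shiftRight y 3)) (Nat.land (Nat.shiftRight x 3) y)) 7)) 1) 1

/-- The alternating form on vectors. -/
def formV (v w : Vec) : ZMod 2 := v ᵥ* Matrix.J (Fin 3) (ZMod 2) ⬝ᵥ w

theorem formV_code (v w : Vec) : decide (formV v w = 1) = form (code v) (code w) := by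
  have h : formV v w = v (Sum.inl 0) * w (Sum.inr 0) + v (Sum.inl 1) * w (Sum.inr 1) +
      v (Sum.inl 2) * w (Sum.inr 2) + v (Sum.inr 0) * w (Sum.inl 0) + v (Sum.inr 1) * w (Sum.inl 1) +
      v (Sum.inr 2) * w (Sum.inl 2) := by
    simp only [formV, Matrix.vecMul, dotProduct, Matrix.J, Fintype.sum_sum_type, Fin.sum_univ_three,
      Matrix.fromBlocks_apply₁₁, Matrix.fromBlocks_apply₁₂, Matrix.fromBlocks_apply₂₁, Matrix.fromBlocks_apply₂₂,
      Matrix.zero_apply, Matrix.neg_apply, Matrix.one_apply]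
    simp [ZMod.neg_eq_self_mod_two]
    ring
  rw [h]
  show _ = form (code6 _ _ _ _ _ _) (code6 _ _ _ _ _ _)
  exact (by decide +kernel : ∀ a b c d e f a' b' c' d' e' f' : ZMod 2,
    decide (a * d' + b * e' + c * f' + d * a' + e * b' + f * c' = 1) =
      form (code6 a b c d e f) (code6 a' b' c' d' e' f')) _ _ _ _ _ _ _ _ _ _ _ _

theorem form_invariant {I R : Type*} [Fintype I] [CommRing R] (A J : Matrix I I R) (h : A * J * Aᵀ = J)
    (v w : I → R) : (v ᵥ* A) ᵥ* J ⬝ᵥ (w ᵥ* A) = v ᵥ* J ⬝ᵥ w := by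
  rw [← Matrix.mulVec_transpose A w, Matrix.dotProduct_mulVec, Matrix.vecMul_vecMul,
    Matrix.vecMul_vecMul, ← Matrix.mul_assoc, h]

theorem act_form (m n : ℕ) (hm : m < 64) (hn : n < 64) (x : Sp) :
    form (act m (enc x)) (act n (enc x)) = form m n := by
  rw [← code_vec n hn, ← code_vec m hm]
  show form (act _ (encM x.1)) (act _ (encM x.1)) = _
  rw [act_encM, act_encM, ← formV_code, ← formV_code]
  have hx : x.1 * Matrix.J (Fin 3) (ZMod 2) * x.1ᵀ = Matrix.J (Fin 3) (ZMod 2) := x.2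
  rw [show formV (vec m ᵥ* x.1) (vec n ᵥ* x.1) = formV (vec m) (vec n) from
    form_invariant x.1 _ hx (vec m) (vec n)]

/-- Shape of the code of a group element. -/
def okB (a : ℕ) : Bool :=
  Nat.blt a (2 ^ 36) &&
    ((List.range 6).all fun i => (List.range 6).all fun j => form (row a i) (row a j) == form (2 ^ i) (2 ^ j))

/-- The matrix with a given code. -/
def decM (a : ℕ) : Matrix (Fin 3 ⊕ Fin 3) (Fin 3 ⊕ Fin 3) (ZMod 2) := fun i => vec (row a (pos i).val)

theorem decM_mem (a : ℕ) (h : okB a = true) : decM a ∈ Matrix.symplecticGroup (Fin 3) (ZMod 2) := by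
  simp only [okB, Bool.and_eq_true, List.all_eq_true, List.mem_range, beq_iff_eq] at h
  rw [SymplecticGroup.mem_iff]
  funext i j
  rw [Matrix.mul_apply]
  show (decM a i ᵥ* Matrix.J (Fin 3) (ZMod 2)) ⬝ᵥ decM a j = _
  refine (by decide : ∀ x y : ZMod 2, decide (x = 1) = decide (y = 1) → x = y) _ _ ?_
  show decide (formV (decM a i) (decM a j) = 1) = _
  rw [formV_code]
  show form (code (vec _)) (code (vec _)) = _
  rw [code_vec _ (row_lt _ _), code_vec _ (row_lt _ _), h.2 _ (pos i).isLt _ (pos j).isLt]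
  exact (by decide +kernel : ∀ i j : Fin 3 ⊕ Fin 3,
    form (2 ^ (pos i).val) (2 ^ (pos j).val) = decide (Matrix.J (Fin 3) (ZMod 2) i j = 1)) i j

/-- The element with a given code. -/
def mk (a : ℕ) (h : okB a = true) : Sp := ⟨decM a, decM_mem a h⟩

theorem enc_mk (a : ℕ) (h : okB a = true) : enc (mk a h) = a := by
  simp only [okB, Bool.and_eq_true] at h
  show pack (code (vec (row a 0))) (code (vec (row a 1))) (code (vec (row a 2))) (code (vec (row a 3)))
    (code (vec (row a 4))) (code (vec (row a 5))) = a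
  rw [code_vec _ (row_lt _ _), code_vec _ (row_lt _ _), code_vec _ (row_lt _ _), code_vec _ (row_lt _ _),
    code_vec _ (row_lt _ _), code_vec _ (row_lt _ _)]
  exact pack_row (of_decide_eq_true (by simpa [Nat.blt_eq] using h.1))

theorem act_two_pow : ∀ i < 6, ∀ x, act (2 ^ i) x = row x i := by
  intro i hi x
  interval_cases i <;> simp [act, bv, Nat.shiftRight_eq_div_pow]

theorem enc_lt (x : Sp) : enc x < 2 ^ 36 := by
  have := code_lt (x.1 (idx 0)); have := code_lt (x.1 (idx 1)); have := code_lt (x.1 (idx 2))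
  have := code_lt (x.1 (idx 3)); have := code_lt (x.1 (idx 4)); have := code_lt (x.1 (idx 5))
  simp only [enc, encM, pack, Nat.add_eq, Nat.mul_eq]
  omega

theorem ok_enc (x : Sp) : okB (enc x) = true := by
  simp only [okB, Bool.and_eq_true, List.all_eq_true, List.mem_range, beq_iff_eq]
  refine ⟨by simpa [Nat.blt_eq] using enc_lt x, fun i hi j hj => ?_⟩
  rw [← act_two_pow i hi, ← act_two_pow j hj, act_form]
  · interval_cases i <;> norm_num
  · interval_cases j <;> norm_num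

end Cfsg.Agent.Lie.PSpFourThreeFull.SpSix
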