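import Cfsg.Agent.Lib.Lie.PSpFourThreeFull.SpSix.Code

/-!
`Sp₆(2)`: finite checks on the centraliser of the involution `t = t_p t_q t_{p+q}`, the four classes of
involutions and a Sylow three subgroup.
-/

set_option autoImplicit false

namespace Cfsg.Agent.Lie.PSpFourThreeFull.SpSix

/-- Transvection with centre `v`. -/
def tvr (i v : ℕ) : ℕ := if form i v then Nat.xor i v else i

/-- Transvection with centre `v`, as a matrix. -/
def tvc (v : ℕ) : ℕ := pack (tvr 1 v) (tvr 2 v) (tvr 4 v) (tvr 8 v) (tvr 16 v) (tvr 32 v)

def cR : ℕ := 34630549633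
def cT : ℕ := 34647588993
def cC : ℕ := cm (tvc 1) (tvc 2)
def cB : ℕ := cm cC (tvc 4)

/-- A number separating the four classes of involutions. -/
def cnt (a : ℕ) : ℕ :=
  ((List.range 64).filter fun v => Nat.beq (act v a) v).length + ((List.range 64).filter fun v => !form v (act v a)).length

def commB (a b : ℕ) : Bool := Nat.beq (cm a b) (cm b a)

def involB (a : ℕ) : Bool := Nat.beq (cm a a) cid && !(Nat.beq a cid)

/-- The vectors fixed by `t`. -/
def fixV : List ℕ := (List.range 64).filter fun r => Nat.beq (act r cT) r

/-- The centraliser of `t`: the rows three and four determine the rows zero and one. -/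
def xhList : List ℕ :=
  (List.range 64).flatMap fun r3 => (List.range 64).flatMap fun r4 =>
    if form r3 r4 then [] else
    let r1 := Nat.xor (act r3 cT) r3
    let r0 := Nat.xor (act r4 cT) r4
    if form r0 r3 && !form r0 r4 && !form r1 r3 && form r1 r4 && !form r0 r1 then
      (fixV.filter fun r => !form r0 r && !form r1 r && !form r r3 && !form r r4).flatMap
        fun r2 => (fixV.filter fun r => !form r0 r && !form r1 r && form r2 r &&
          !form r3 r && !form r4 r).map fun r5 => pack r0 r1 r2 r3 r4 r5
    else []

theorem mem_xhList {x : Sp} (hx : cm (enc x) cT = cm cT (enc x)) : enc x ∈ xhList := by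
  have hok := ok_enc x
  have hlt := enc_lt x
  set a := enc x
  simp only [okB, Bool.and_eq_true, List.all_eq_true, List.mem_range, beq_iff_eq] at hok
  have g := hok.2
  have hrows := congrArg (fun n => (row n 0, row n 1, row n 2, row n 3, row n 4, row n 5)) hx
  simp only [cm] at hrows
  have hl : ∀ w, w < 64 → act w cT < 64 := by decide +kernel
  have ha : ∀ k, k < 64 → act k a < 64 := fun k hk => act_lt k hk x
  have p1 := row_pack (hl _ (row_lt a 0)) (hl _ (row_lt a 1)) (hl _ (row_lt a 2)) (hl _ (row_lt a 3))
    (hl _ (row_lt a 4)) (hl _ (row_lt a 5))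
  have p2 := row_pack (ha _ (row_lt cT 0)) (ha _ (row_lt cT 1)) (ha _ (row_lt cT 2)) (ha _ (row_lt cT 3))
    (ha _ (row_lt cT 4)) (ha _ (row_lt cT 5))
  simp only [p1, p2, Prod.mk.injEq] at hrows
  obtain ⟨-, -, c2, c3, c4, c5⟩ := hrows
  have t2 : act (row cT 2) a = row a 2 := by
    rw [show row cT 2 = 2 ^ 2 by decide +kernel]; exact act_two_pow 2 (by omega) a
  have t5 : act (row cT 5) a = row a 5 := by
    rw [show row cT 5 = 2 ^ 5 by decide +kernel]; exact act_two_pow 5 (by omega) a
  have t3 : act (row cT 3) a = row a 1 ^^^ row a 3 := by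
    rw [show row cT 3 = 2 ^ 1 ^^^ 2 ^ 3 by decide +kernel, act_xor _ _ (by norm_num) (by norm_num),
      act_two_pow 1 (by omega), act_two_pow 3 (by omega)]
  have t4 : act (row cT 4) a = row a 0 ^^^ row a 4 := by
    rw [show row cT 4 = 2 ^ 0 ^^^ 2 ^ 4 by decide +kernel, act_xor _ _ (by norm_num) (by norm_num),
      act_two_pow 0 (by omega), act_two_pow 4 (by omega)]
  rw [t2] at c2
  rw [t5] at c5
  have e1 : row a 1 = Nat.xor (act (row a 3) cT) (row a 3) := by
    show _ = act (row a 3) cT ^^^ row a 3
    rw [c3, t3, Nat.xor_assoc, Nat.xor_self, Nat.xor_zero]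
  have e0 : row a 0 = Nat.xor (act (row a 4) cT) (row a 4) := by
    show _ = act (row a 4) cT ^^^ row a 4
    rw [c4, t4, Nat.xor_assoc, Nat.xor_self, Nat.xor_zero]
  have f34 : form (row a 3) (row a 4) = false := g 3 (by omega) 4 (by omega)
  have f03 : form (row a 0) (row a 3) = true := g 0 (by omega) 3 (by omega)
  have f04 : form (row a 0) (row a 4) = false := g 0 (by omega) 4 (by omega)
  have f13 : form (row a 1) (row a 3) = false := g 1 (by omega) 3 (by omega)
  have f14 : form (row a 1) (row a 4) = true := g 1 (by omega) 4 (by omega)
  have f01 : form (row a 0) (row a 1) = false := g 0 (by omega) 1 (by omega)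
  have f02 : form (row a 0) (row a 2) = false := g 0 (by omega) 2 (by omega)
  have f12 : form (row a 1) (row a 2) = false := g 1 (by omega) 2 (by omega)
  have f23 : form (row a 2) (row a 3) = false := g 2 (by omega) 3 (by omega)
  have f24 : form (row a 2) (row a 4) = false := g 2 (by omega) 4 (by omega)
  have f05 : form (row a 0) (row a 5) = false := g 0 (by omega) 5 (by omega)
  have f15 : form (row a 1) (row a 5) = false := g 1 (by omega) 5 (by omega)
  have f25 : form (row a 2) (row a 5) = true := g 2 (by omega) 5 (by omega)
  have f35 : form (row a 3) (row a 5) = false := g 3 (by omega) 5 (by omega)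
  have f45 : form (row a 4) (row a 5) = false := g 4 (by omega) 5 (by omega)
  simp only [xhList, List.mem_flatMap, List.mem_range]
  refine ⟨_, row_lt a 3, _, row_lt a 4, ?_⟩
  rw [f34, if_neg Bool.false_ne_true, ← e0, ← e1]
  simp only [f03, f04, f13, f14, f01, Bool.not_false, Bool.and_self, if_true, List.mem_flatMap, List.mem_map,
    List.mem_filter, fixV, List.mem_range, Bool.and_eq_true, Nat.beq_eq, Bool.not_eq_true', and_assoc]
  exact ⟨_, row_lt a 2, c2, f02, f12, f23, f24, _, row_lt a 5, c5, f05, f15, f25, f35, f45, pack_row hlt⟩

/-- Action on `L^⊥ / L`. -/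
def pu (a : ℕ) : ℕ × ℕ := (Nat.land (act 4 a) 36, Nat.land (act 32 a) 36)

/-- Composition of two such actions. -/
def puMul (p q : ℕ × ℕ) : ℕ × ℕ :=
  (Nat.xor (Nat.mul (bv p.1 2) q.1) (Nat.mul (bv p.1 5) q.2), Nat.xor (Nat.mul (bv p.2 2) q.1) (Nat.mul (bv p.2 5) q.2))

theorem perp_decomp : ∀ w < 64, form w 1 = false → form w 2 = false →
    w = (w &&& 3) ^^^ Nat.mul (bv w 2) 4 ^^^ Nat.mul (bv w 5) 32 := by decide +kernel

def puOdd (p : ℕ × ℕ) : Bool := [(4, 36), (32, 4), (36, 32)].contains p

def puRot (p : ℕ × ℕ) : ℕ := if p == (32, 36) then 1 else if p == (36, 4) then 2 else 0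

/-- The radical. -/
def inK (a : ℕ) : Bool := act 1 a == 1 && act 2 a == 2 && pu a == (4, 32)

/-- A Sylow two subgroup. -/
def inS (a : ℕ) : Bool := act 1 a == 1 && decide (act 4 a < 8)

def zTr : List ℕ := [tvc 1, tvc 2, tvc 3]

/-- An intrinsic description of the radical. -/
def intrK (a : ℕ) : Bool :=
  zTr.all (commB a) &&
    ((cm a a == cT) || (cm a a == cid && !([88, 104].contains (cnt a + cnt (cm a cT)))))

def eL : ℕ := 34500264130
def eU : ℕ := 38925369473
def sL : ℕ := 34498166850
def sU : ℕ := 38925254785

/-- Conjugators moving every involution of the Sylow subgroup to a representative. -/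
def hTab : List ℕ := [
  34269581763, 40000307329, 44950884679, 60071358534,
  14456746116, 25750167621, 64621389922, 18217987444,
  35364301873, 63034894371, 17393002789, 29757024740,
  21200665842, 15364266469, 51111539138, 31300790630,
  64614056262, 52062077969, 39438024119, 35940746450,
  10582235556, 17854376032, 52784285079, 37034673429,
  24440084673, 39716409411, 9434044576, 53644114343,
  16079141089, 20600086596, 37029953667, 56818946502,
  11454935426, 33584845252, 49731092613, 9636950278,
  59235641570, 28961952003, 10015945138, 61413793990,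
  68261781827, 52086972865, 27193514279, 21179429125,
  26773316035, 55294697569, 37219237236, 32863162819,
  10695227812, 37432615041, 41183629441, 55815722194,
  37546906901, 54708942881, 48681349286, 23570168034,
  24442439873, 15878877446, 21751028097, 32508678640,
  18699268164, 66233373701, 43891318917, 26457546976,
  57690838486, 22737087927, 46588246375, 27177406692
]

def repOf (a : ℕ) : ℕ :=
  if cnt a == 64 then cR else if cnt a == 80 then cT else if cnt a == 48 then cC else cB

theorem hTab_valid : hTab.all okB = true := by decide +kernel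

theorem rep_facts : (cnt cR, cnt cT, cnt cC, cnt cB) = (64, 80, 48, 40) ∧ tvc 1 = cR ∧
    cm (cm (tvc 1) (tvc 2)) (tvc 3) = cT := by decide +kernel

/-- The Levi elements with trivial action on `L^⊥ / L`. -/
def leviL : List ℕ :=
  [cid, 34634481857, 34498166850, 34764505219, 34500264130, 34766602307]

/-- The involutions generating the radical with the Levi part. -/
def isA (a : ℕ) : Bool := involB a && (cnt a == 80 && cnt (cm a cT) == 48)

/-- The involutions detecting the odd permutations of `L^⊥ / L`. -/
def isU (a : ℕ) : Bool := involB a && (cnt a == 64 && cnt (cm a cT) == 40)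

/-- Square eight times. -/
def sq8 (a : ℕ) : ℕ := (List.range 8).foldl (fun b _ => cm b b) a

/-- Seven generators of the radical, each a product of two of these involutions. -/
def kPairs : List (ℕ × ℕ) := [
  (34634481857, 34651783361),
  (34634481857, 35709272257),
  (34634481857, 34642874561),
  (34634481857, 35717664961),
  (34498166850, 34515468354),
  (34498166850, 37787549762),
  (34498166850, 35043438658)
]

/-- Products of sublists of the generators. -/
def kSpan : List ℕ :=
  kPairs.foldl (fun acc p => acc ++ acc.map fun c => cm c (cm p.1 p.2)) [cid]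

/-- The radical, listed. -/
def kSpanLit : List ℕ := [
  34630287489, 34647851137, 35705077889, 35722641537, 34638680193, 34656243841, 35713732737,
  35730772097, 35713470593, 35731034241, 34638942337, 34655981697, 35705340033, 35722379393,
  34630549633, 34647588993, 34664104065, 34681143425, 35738894465, 35755933825, 34672496769,
  34689536129, 35747025025, 35764588673, 35747287169, 35764326529, 34672234625, 34689798273,
  35738632321, 35756195969, 34663841921, 34681405569, 37919670401, 37937234049, 36844880001,
  36862443649, 37928849537, 37944840321, 36853796993, 36870312065, 36854059137, 36870049921,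
  37928587393, 37945102465, 36845142145, 36862181505, 37919932545, 37936971905, 37953486977,
  37970526337, 36878696577, 36895735937, 37962141825, 37978656897, 36887613569, 36903604353,
  36887351425, 36903866497, 37962403969, 37978394753, 36878434433, 36895998081, 37953224833,
  37970788481, 35175559297, 35193122945, 36251136129, 36267126913, 35167166593, 35184730241,
  36242481281, 36258996353, 36242743425, 36258734209, 35167428737, 35184468097, 36250873985,
  36267389057, 35175821441, 35192860801, 35209375873, 35226415233, 36284428417, 36300943489,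
  35200983169, 35218022529, 36276297857, 36292288641, 36276035713, 36292550785, 35200721025,
  35218284673, 36284690561, 36300681345, 35209113729, 35226677377, 38516060289, 38498496641,
  37440483457, 37424492673, 38506881153, 38490890369, 37432615041, 37415575681, 37432877185,
  37415313537, 38507143297, 38490628225, 37440745601, 37424230529, 38515798145, 38498758785,
  38482243713, 38465204353, 37407191169, 37390676097, 38473588865, 38457073793, 37399322753,
  37381759105, 37399060609, 37382021249, 38473326721, 38457335937, 37406929025, 37390938241,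
  38482505857, 38464942209
]

theorem kSpan_eq : kSpan = kSpanLit := by decide +kernel

/-- All checks made on the elements of the centraliser of `t`. -/
def xhCheck (a : ℕ) : Bool :=
  (okB a && commB a cT) &&
  (decide (act 1 a < 4) && decide (act 2 a < 4)) &&
  (!form (act 4 a) 1 && !form (act 4 a) 2 && !form (act 32 a) 1 && !form (act 32 a) 2 &&
    [(4, 32), (4, 36), (32, 4), (36, 32), (32, 36), (36, 4)].contains (pu a)) &&
  (intrK a == inK a) &&
  (!(cm a a == cid) || ((cnt a == 64 && cnt (cm a cT) == 48) == zTr.contains a)) &&
  (!inK a || inS a) &&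
  (!(inS a && involB a) || hTab.any fun h => cm h a == cm (repOf a) h) &&
  (!isA a || pu a == (4, 32)) &&
  (!isU a || puOdd (pu a)) &&
  (!(pu a == (4, 32)) ||
    ((leviL.any fun l => kSpanLit.contains (cm a l)) &&
      (!commB a eL || [cid, cT, eL, cm eL eL, cm cT eL, cm cT (cm eL eL)].contains a) &&
      (inK a || !(sq8 a == cid) || !(sq8 (cm (cm (cm a eL) a) (cm eL eL)) == cid)))) &&
  ([cid, eL, cm eL eL].any fun p => [cid, eU, cm eU eU].any fun q =>
    [cid, sL, sU, cm sL sU].any fun s =>
      let w := cm (cm p q) s
      act 1 w == act 1 a && act 2 w == act 2 a && pu w == pu a)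

theorem xh_all : xhList.all xhCheck = true := by decide +kernel

theorem xh_counts : xhList.length = 4608 ∧ (xhList.filter inS).length = 512 ∧
    (xhList.filter inK).length = 128 ∧ (xhList.filter fun a => pu a == (4, 32)).length = 768 := by decide +kernel

theorem gens_mem : (kPairs.all fun p => okB p.1 && okB p.2 && commB p.1 cT && commB p.2 cT && isA p.1 && isA p.2) = true ∧
    ([34634481857, 34498166850, 34764505219].all fun a => okB a && commB a cT && isA a) = true ∧
    cm 34634481857 34498166850 ∈ leviL.drop 4 ∧ isU sU = true ∧ isA sL = true := by decide +kernel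

/-- A key increasing along the list. -/
def key (a : ℕ) : ℕ :=
  Nat.add (Nat.mul 262144 (row a 3)) (Nat.add (Nat.mul 4096 (row a 4)) (Nat.add (Nat.mul 64 (row a 2)) (row a 5)))

/-- The key increases along a list. -/
def incB : List ℕ → Bool
  | a :: b :: l => Nat.blt (key a) (key b) && incB (b :: l)
  | _ => true

theorem incB_pairwise : ∀ l : List ℕ, incB l = true → l.Pairwise fun a b => key a < key b
  | [], _ => List.Pairwise.nil
  | [_], _ => List.pairwise_singleton _ _
  | a :: b :: l, h => by
    simp only [incB, Bool.and_eq_true, Nat.blt_eq] at h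
    have ih := incB_pairwise (b :: l) h.2
    refine List.pairwise_cons.2 ⟨fun x hx => ?_, ih⟩
    rcases List.mem_cons.1 hx with rfl | hx'
    · exact h.1
    · exact h.1.trans ((List.pairwise_cons.1 ih).1 x hx')

theorem xh_inc : incB xhList = true := by decide +kernel

theorem xh_nodup : xhList.Nodup :=
  (incB_pairwise _ xh_inc).imp fun {a b} (h : key a < key b) (e : a = b) => lt_irrefl (key b) (by rwa [e] at h)

theorem tvc_c : (List.range 64).all (fun v => !(commB (tvc v) cC && cnt (cm (tvc v) cC) == 80) || v == 3) = true :=
  by decide +kernel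

theorem tvc_b : (List.range 64).all (fun v => !(commB (tvc v) cB && cnt (cm (tvc v) cB) == 80) || v == 7) = true :=
  by decide +kernel

theorem tvc_R : (List.range 64).all (fun v => !(commB (tvc v) cR) || tvc v == cR || tvc v == cid ||
    cnt (cm (tvc v) cR) == 48) = true := by decide +kernel

def fourA : ℕ := 36844880001

theorem four_facts : okB fourA = true ∧ commB fourA cT = true ∧ cnt fourA = 80 ∧ cnt (cm fourA cT) = 80 ∧
    commB fourA cC = true ∧ commB cT cC = true ∧ commB fourA cB = true ∧ commB cT cB = true ∧
    involB fourA = true := by decide +kernel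

/-- A Sylow three subgroup. -/
def p3 : List ℕ :=
  let gs : List ℕ := [34630549640, 34663842817, 38925369473, 9131004162]
  gs.foldl (fun acc g => acc ++ acc.map (fun c => cm c g) ++ acc.map (fun c => cm c (cm g g))) [cid]

def cZ : ℕ := 38959186952

theorem p3_facts : p3.length = 81 ∧ p3.all okB = true ∧ p3.Nodup ∧
    (p3.all fun a => p3.all fun b => p3.contains (cm a b)) = true ∧
    (p3.all fun a => !(p3.all (commB a)) || [cid, cZ, cm cZ cZ].contains a) = true ∧
    (p3.all fun a => commB a cZ) = true ∧ p3.contains cZ = true ∧ p3.contains cid = true ∧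
    cm 4328915976 cZ = cm (cm cZ cZ) 4328915976 := by decide +kernel

theorem elems_ok : ([cR, cT, cC, cB, eL, eU, sL, sU, cZ, tvc 2, tvc 3, tvc 4, tvc 7, 9131004162,
    4328915976] : List ℕ).all okB = true := by decide +kernel

theorem rep_three : commB cR eU = true ∧ commB cT eL = true ∧ commB cC eU = true ∧
    commB cB 9131004162 = true := by decide +kernel

end Cfsg.Agent.Lie.PSpFourThreeFull.SpSix
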