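import Cfsg.Agent.Lib.Lie.PSpFourThreeFull.SpSix.Model

/-!
A copy of `Sp₆(2)` containing the centralisers of its elements of order three controls the fusion of its
involutions.
-/

set_option autoImplicit false

set_option maxHeartbeats 1000000

universe u

namespace Cfsg.Agent.Lie.PSpFourThreeFull.SpSix

/-- A conjugate of a commuting pair commutes. -/
theorem conj_commute {H : Type*} {G : Type*} [Group H] [Group G] (f : H →* G) (g : G) (k z y : H)
    (h : k * y * k⁻¹ * z = z * (k * y * k⁻¹)) :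
    g * (f k)⁻¹ * f z * (g * (f k)⁻¹)⁻¹ * (g * f y * g⁻¹) = g * f y * g⁻¹ * (g * (f k)⁻¹ * f z * (g * (f k)⁻¹)⁻¹) := by
  have e : f k * f y * (f k)⁻¹ * f z = f z * (f k * f y * (f k)⁻¹) := by
    rw [← map_inv, ← map_mul, ← map_mul, ← map_mul, ← map_mul, h]
  calc g * (f k)⁻¹ * f z * (g * (f k)⁻¹)⁻¹ * (g * f y * g⁻¹)
      = g * (f k)⁻¹ * (f z * (f k * f y * (f k)⁻¹)) * f k * g⁻¹ := by group
    _ = g * (f k)⁻¹ * (f k * f y * (f k)⁻¹ * f z) * f k * g⁻¹ := by rw [e]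
    _ = _ := by group

/-- A copy of `Sp₆(2)` containing the centralisers of its elements of order three. -/
structure Emb (G : Type u) [Group G] where
  φ : Sp →* G
  inj : Function.Injective φ
  three : ∀ y : Sp, orderOf y = 3 → ∀ g : G, g * φ y = φ y * g → g ∈ φ.range

namespace Emb

variable {G : Type u} [Group G] (d : Emb G)

/-- An element commuting with the image of `x`. -/
theorem mem_range_of_commute {x : G} {y : Sp} (hy : orderOf y = 3) (h : x * d.φ y = d.φ y * x) :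
    x ∈ d.φ.range := d.three y hy x h

theorem orderOf_φ (y : Sp) : orderOf (d.φ y) = orderOf y := orderOf_injective d.φ d.inj y

/-- A three-group meeting the copy lies in it. -/
theorem three_group_le [Finite G] {R : Subgroup G} (hR : IsPGroup 3 R) {y : Sp} (hy : orderOf y = 3)
    (hyR : d.φ y ∈ R) : R ≤ d.φ.range := by
  haveI : Fact (Nat.Prime 3) := ⟨Nat.prime_three⟩
  haveI : Nontrivial R := ⟨⟨⟨d.φ y, hyR⟩, 1, fun e => by
    have h1 : d.φ y = 1 := congrArg Subtype.val e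
    have := d.orderOf_φ y
    rw [h1, orderOf_one, hy] at this
    omega⟩⟩
  haveI := hR.center_nontrivial
  have hcp : 3 ∣ Nat.card (Subgroup.center R) := by
    obtain ⟨n, hn0, hn⟩ := (hR.to_subgroup (Subgroup.center R)).nontrivial_iff_card.1 inferInstance
    rw [hn]; exact dvd_pow_self 3 hn0.ne'
  obtain ⟨c, hc⟩ := exists_prime_orderOf_dvd_card' 3 hcp
  have hcc : ∀ r : R, (r : G) * ((c : R) : G) = ((c : R) : G) * r := fun r =>
    congrArg Subtype.val (Subgroup.mem_center_iff.1 c.2 r)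
  have hco : orderOf ((c : R) : G) = 3 := by rw [Subgroup.orderOf_coe, Subgroup.orderOf_coe, hc]
  obtain ⟨w, hw⟩ := d.mem_range_of_commute hy (hcc ⟨d.φ y, hyR⟩).symm
  intro r hr
  refine d.mem_range_of_commute (y := w) (by rw [← d.orderOf_φ, hw, hco]) ?_
  rw [hw]
  exact hcc ⟨r, hr⟩

/-- An element conjugating a central three-element into the copy lies in it. -/
theorem range_of_central_conj [Finite G] {g : G} (hg : g * d.φ xZ * g⁻¹ ∈ d.φ.range) : g ∈ d.φ.range := by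
  haveI : Fact (Nat.Prime 3) := ⟨Nat.prime_three⟩
  have hP : IsPGroup 3 PP := IsPGroup.of_card (n := 4) (by rw [card_PP]; norm_num)
  obtain ⟨w, hw⟩ := hg
  have hwo : orderOf w = 3 := by
    rw [← d.orderOf_φ, hw]
    exact (MulEquiv.orderOf_eq (MulAut.conj g) _).trans ((d.orderOf_φ xZ).trans order_xZ)
  have hle : (PP.map d.φ).map (MulAut.conj g).toMonoidHom ≤ d.φ.range := by
    rintro _ ⟨_, ⟨x, hx, rfl⟩, rfl⟩
    show g * d.φ x * g⁻¹ ∈ _
    refine d.mem_range_of_commute hwo ?_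
    rw [hw]
    calc g * d.φ x * g⁻¹ * (g * d.φ xZ * g⁻¹) = g * d.φ (x * xZ) * g⁻¹ := by rw [map_mul]; group
      _ = g * d.φ (xZ * x) * g⁻¹ := by rw [comm_xZ hx]
      _ = _ := by rw [map_mul]; group
  let P' : Subgroup Sp := ((PP.map d.φ).map (MulAut.conj g).toMonoidHom).comap d.φ
  have hcard : Nat.card P' = 81 := by
    rw [← Subgroup.card_map_of_injective d.inj, Subgroup.map_comap_eq_self hle,
      Subgroup.card_map_of_injective (MulEquiv.injective _), Subgroup.card_map_of_injective d.inj, card_PP]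
  have hidx : ¬ 3 ∣ P'.index := by
    have h := P'.card_mul_index
    rw [hcard, card_Sp] at h
    omega
  obtain ⟨k, hk⟩ := MulAction.exists_smul_eq Sp
    ((IsPGroup.of_card (n := 4) (by rw [hcard]; norm_num) : IsPGroup 3 P').toSylow hidx) (hP.toSylow index_PP)
  have hk' : P'.map (MulAut.conj k).toMonoidHom = PP := by
    have := congrArg (fun Q : Sylow 3 Sp => (Q : Subgroup Sp)) hk
    simp only [Sylow.coe_subgroup_smul] at this
    exact this
  have hzPP : xZ ∈ PP := by rw [mem_PP, xZ, enc_mk]; exact List.contains_iff_mem.1 p3_facts.2.2.2.2.2.2.1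
  have hwP : w ∈ P' := by
    refine Subgroup.mem_comap.2 ?_
    rw [hw]
    exact ⟨_, ⟨xZ, hzPP, rfl⟩, rfl⟩
  obtain ⟨k', hk''⟩ := center_PP (x := k * w * k⁻¹) (hk' ▸ ⟨w, hwP, rfl⟩)
    (fun e => by rw [conj_eq_one_iff.1 e, orderOf_one] at hwo; omega)
    (fun p hp => by
      rw [← hk'] at hp
      obtain ⟨q, hq, rfl⟩ := hp
      obtain ⟨_, ⟨x, hx, rfl⟩, hxq⟩ := Subgroup.mem_comap.1 hq
      have hxq' : g * d.φ x * g⁻¹ = d.φ q := hxq
      have e : w * q = q * w := d.inj (by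
        rw [map_mul, map_mul, hw, ← hxq']
        calc g * d.φ xZ * g⁻¹ * (g * d.φ x * g⁻¹) = g * d.φ (xZ * x) * g⁻¹ := by rw [map_mul]; group
          _ = g * d.φ (x * xZ) * g⁻¹ := by rw [comm_xZ hx]
          _ = _ := by rw [map_mul]; group)
      show k * w * k⁻¹ * (k * q * k⁻¹) = k * q * k⁻¹ * (k * w * k⁻¹)
      calc k * w * k⁻¹ * (k * q * k⁻¹) = k * (w * q) * k⁻¹ := by group
        _ = k * (q * w) * k⁻¹ := by rw [e]
        _ = _ := by group)
  have hconj : w = (k⁻¹ * k') * xZ * (k⁻¹ * k')⁻¹ := by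
    calc w = k⁻¹ * (k * w * k⁻¹) * k := by group
      _ = k⁻¹ * (k' * xZ * k'⁻¹) * k := by rw [hk'']
      _ = _ := by group
  have hmem : (d.φ (k⁻¹ * k'))⁻¹ * g ∈ d.φ.range := by
    refine d.mem_range_of_commute order_xZ ?_
    have h2 : g * d.φ xZ * g⁻¹ = d.φ (k⁻¹ * k') * d.φ xZ * (d.φ (k⁻¹ * k'))⁻¹ := by
      rw [← hw, hconj, map_mul, map_mul, map_inv]
    calc (d.φ (k⁻¹ * k'))⁻¹ * g * d.φ xZ = (d.φ (k⁻¹ * k'))⁻¹ * (g * d.φ xZ * g⁻¹) * g := by group
      _ = (d.φ (k⁻¹ * k'))⁻¹ * (d.φ (k⁻¹ * k') * d.φ xZ * (d.φ (k⁻¹ * k'))⁻¹) * g := by rw [h2]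
      _ = _ := by group
  have hfin := d.φ.range.mul_mem (MonoidHom.mem_range.2 ⟨k⁻¹ * k', rfl⟩) hmem
  rwa [mul_inv_cancel_left] at hfin

/-- The copy controls the fusion of its elements of order three. -/
theorem range_of_three_conj [Finite G] {y : Sp} (hy : orderOf y = 3) {g : G}
    (hg : g * d.φ y * g⁻¹ ∈ d.φ.range) : g ∈ d.φ.range := by
  haveI : Fact (Nat.Prime 3) := ⟨Nat.prime_three⟩
  have hP : IsPGroup 3 PP := IsPGroup.of_card (n := 4) (by rw [card_PP]; norm_num)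
  obtain ⟨Q, hQ⟩ := (IsPGroup.of_card (n := 1) (by rw [Nat.card_zpowers, hy, pow_one] :
    Nat.card (Subgroup.zpowers y) = 3 ^ 1)).exists_le_sylow
  obtain ⟨k, hk⟩ := MulAction.exists_smul_eq Sp Q (hP.toSylow index_PP)
  have hyP : k * y * k⁻¹ ∈ PP := by
    have := congrArg (fun Q : Sylow 3 Sp => (Q : Subgroup Sp)) hk
    simp only [Sylow.coe_subgroup_smul] at this
    rw [show PP = ((hP.toSylow index_PP : Sylow 3 Sp) : Subgroup Sp) from rfl, ← this]
    exact ⟨y, hQ (Subgroup.mem_zpowers y), rfl⟩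
  obtain ⟨w, hw⟩ := hg
  have hg' : g * (d.φ k)⁻¹ ∈ d.φ.range := by
    refine d.range_of_central_conj (d.mem_range_of_commute (y := w) ?_ ?_)
    · rw [← d.orderOf_φ, hw]
      exact (MulEquiv.orderOf_eq (MulAut.conj g) _).trans ((d.orderOf_φ y).trans hy)
    · rw [hw]
      exact conj_commute d.φ g k xZ y (comm_xZ hyP)
  have hfin := d.φ.range.mul_mem hg' (MonoidHom.mem_range.2 ⟨k, rfl⟩)
  rwa [inv_mul_cancel_right] at hfin

/-- The copy controls the fusion of its involutions. -/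
theorem fusion [Finite G] {u v : Sp} (hu : u * u = 1) {g : G} (h : g * d.φ u * g⁻¹ = d.φ v) :
    ∃ k : Sp, k * u * k⁻¹ = v := by
  haveI : Fact (Nat.Prime 3) := ⟨Nat.prime_three⟩
  have hv : v * v = 1 := d.inj (by
    rw [map_mul, map_one, ← h]
    calc g * d.φ u * g⁻¹ * (g * d.φ u * g⁻¹) = g * d.φ (u * u) * g⁻¹ := by rw [map_mul]; group
      _ = 1 := by rw [hu, map_one]; group)
  obtain ⟨y, hy, hyu⟩ := exists_three hu
  obtain ⟨y', hy', hyv⟩ := exists_three hv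
  let C : Subgroup G := Subgroup.centralizer ({d.φ v} : Set G)
  have hC : ∀ x : G, x ∈ C ↔ x * d.φ v = d.φ v * x := fun x => Subgroup.mem_centralizer_singleton_iff
  have h1 : d.φ y' ∈ C := (hC _).2 (by rw [← map_mul, hyv, map_mul])
  have h2 : g * d.φ y * g⁻¹ ∈ C := (hC _).2 (by
    rw [← h]
    calc g * d.φ y * g⁻¹ * (g * d.φ u * g⁻¹) = g * d.φ (y * u) * g⁻¹ := by rw [map_mul]; group
      _ = g * d.φ (u * y) * g⁻¹ := by rw [hyu]
      _ = _ := by rw [map_mul]; group)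
  have hzp : ∀ x : C, orderOf x = 3 → ∃ R : Sylow 3 C, x ∈ (R : Subgroup C) := fun x hx => by
    obtain ⟨R, hR⟩ := (IsPGroup.of_card (n := 1) (by rw [Nat.card_zpowers, hx, pow_one] :
      Nat.card (Subgroup.zpowers x) = 3 ^ 1)).exists_le_sylow
    exact ⟨R, hR (Subgroup.mem_zpowers x)⟩
  obtain ⟨R, hR⟩ := hzp ⟨_, h2⟩ (by
    rw [Subgroup.orderOf_mk]
    exact (MulEquiv.orderOf_eq (MulAut.conj g) _).trans ((d.orderOf_φ y).trans hy))
  obtain ⟨R', hR'⟩ := hzp ⟨_, h1⟩ (by rw [Subgroup.orderOf_mk, d.orderOf_φ, hy'])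
  obtain ⟨c, hc⟩ := MulAction.exists_smul_eq C R R'
  have hle := d.three_group_le (R := (R' : Subgroup C).map C.subtype) (R'.2.map _) hy' ⟨_, hR', rfl⟩
  have hm : (c : G) * (g * d.φ y * g⁻¹) * (c : G)⁻¹ ∈ d.φ.range := hle ⟨c * ⟨_, h2⟩ * c⁻¹, by
    rw [← hc]
    exact ⟨⟨_, h2⟩, hR, rfl⟩, rfl⟩
  obtain ⟨k, hk⟩ := d.range_of_three_conj hy (g := (c : G) * g) (by
    rw [show (c : G) * g * d.φ y * ((c : G) * g)⁻¹ = (c : G) * (g * d.φ y * g⁻¹) * (c : G)⁻¹ by group]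
    exact hm)
  refine ⟨k, d.inj ?_⟩
  rw [map_mul, map_mul, map_inv, hk]
  calc (c : G) * g * d.φ u * ((c : G) * g)⁻¹ = (c : G) * (g * d.φ u * g⁻¹) * (c : G)⁻¹ := by group
    _ = (c : G) * d.φ v * (c : G)⁻¹ := by rw [h]
    _ = d.φ v := by rw [(hC _).1 c.2, mul_inv_cancel_right]

/-- The class invariant is preserved by fusion. -/
theorem cnt_fusion [Finite G] {u v : Sp} (hu : u * u = 1) {g : G} (h : g * d.φ u * g⁻¹ = d.φ v) :
    cnt (enc v) = cnt (enc u) := by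
  obtain ⟨k, rfl⟩ := d.fusion hu h
  exact cnt_conj k u

/-- If the centraliser of an involution lies in the copy, so does every element conjugating it into the copy. -/
theorem mem_range_of_conj [Finite G] {u v : Sp} (hu : u * u = 1)
    (hC : ∀ x : G, x * d.φ u = d.φ u * x → x ∈ d.φ.range) {g : G} (h : g * d.φ u * g⁻¹ = d.φ v) :
    g ∈ d.φ.range := by
  obtain ⟨k, hk⟩ := d.fusion hu h
  have hm : (d.φ k)⁻¹ * g ∈ d.φ.range := by
    refine hC _ ?_
    have e : d.φ k * d.φ u * (d.φ k)⁻¹ = g * d.φ u * g⁻¹ := by rw [h, ← hk, map_mul, map_mul, map_inv]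
    calc (d.φ k)⁻¹ * g * d.φ u = (d.φ k)⁻¹ * (g * d.φ u * g⁻¹) * g := by group
      _ = (d.φ k)⁻¹ * (d.φ k * d.φ u * (d.φ k)⁻¹) * g := by rw [e]
      _ = _ := by group
  have hfin := d.φ.range.mul_mem (MonoidHom.mem_range.2 ⟨k, rfl⟩) hm
  rwa [mul_inv_cancel_left] at hfin

/-- A representative centralised only inside the copy makes every conjugate so. -/
theorem cent_of_rep {u r : Sp} (h : Sp) (hur : h * u * h⁻¹ = r)
    (hC : ∀ x : G, x * d.φ r = d.φ r * x → x ∈ d.φ.range) {x : G} (hx : x * d.φ u = d.φ u * x) :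
    x ∈ d.φ.range := by
  have hm : d.φ h * x * (d.φ h)⁻¹ ∈ d.φ.range := by
    refine hC _ ?_
    rw [← hur, map_mul, map_mul, map_inv]
    calc d.φ h * x * (d.φ h)⁻¹ * (d.φ h * d.φ u * (d.φ h)⁻¹) = d.φ h * (x * d.φ u) * (d.φ h)⁻¹ := by group
      _ = d.φ h * (d.φ u * x) * (d.φ h)⁻¹ := by rw [hx]
      _ = _ := by group
  have h1 : d.φ h ∈ d.φ.range := ⟨h, rfl⟩
  have hfin := d.φ.range.mul_mem (d.φ.range.inv_mem h1) (d.φ.range.mul_mem hm h1)
  rwa [inv_mul_cancel_right, inv_mul_cancel_left] at hfin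

end Emb

end Cfsg.Agent.Lie.PSpFourThreeFull.SpSix
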