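import Cfsg.Agent.Lib.Char.ZStar
import Cfsg.Agent.Lib.Char.NoOrderTwoP
import Cfsg.Agent.S0058

/-!
Two general lemmas: an involution isolated over a subgroup containing its centraliser and the centralisers of a
four group; the central involution of a dihedral group of order divisible by four.
-/

set_option autoImplicit false

namespace Cfsg.Agent.Lie.PSpFourThreeFull.SpSix

open Cfsg

/-- A subgroup containing the centraliser of an involution, in which that involution has no other conjugate, and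
the centralisers of the involutions of a four group, is the whole group. -/
theorem isolated_top {Y : Type*} [Group Y] [Finite Y] (D : Subgroup Y) {r a b : Y} (hr : orderOf r = 2)
    (hrD : r ∈ D) (hcent : ∀ g : Y, g * r = r * g → g ∈ D)
    (hiso : ∀ g : Y, g * r * g⁻¹ ∈ D → g * r * g⁻¹ = r) (ha : a * a = 1) (hb : b * b = 1) (hab : a * b = b * a)
    (ha1 : a ≠ 1) (hb1 : b ≠ 1) (hne : a ≠ b) (hca : ∀ g : Y, g * a = a * g → g ∈ D)
    (hcb : ∀ g : Y, g * b = b * g → g ∈ D) (hcab : ∀ g : Y, g * (a * b) = a * b * g → g ∈ D) : D = ⊤ := by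
  haveI : Fact (Nat.Prime 2) := ⟨Nat.prime_two⟩
  have hr2 : r * r = 1 := by rw [← pow_two, ← hr, pow_orderOf_eq_one]
  have hDr : ∀ d ∈ D, d * r = r * d := fun d hd =>
    mul_inv_eq_iff_eq_mul.1 (hiso d (D.mul_mem (D.mul_mem hd hrD) (D.inv_mem hd)))
  -- a Sylow subgroup containing `r` lies in `D`
  obtain ⟨P, hP⟩ := (IsPGroup.of_card (n := 1) (by
    rw [Nat.card_zpowers, Subgroup.orderOf_mk, hr, pow_one] :
      Nat.card (Subgroup.zpowers (⟨r, hrD⟩ : D)) = 2 ^ 1)).exists_le_sylow
  obtain ⟨R, hR⟩ := (P.2.map D.subtype).exists_le_sylow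
  have hrR : r ∈ (R : Subgroup Y) := hR ⟨⟨r, hrD⟩, hP (Subgroup.mem_zpowers _), rfl⟩
  have hRD : (R : Subgroup Y) ≤ D := by
    by_contra hne'
    have hlt : D.subgroupOf R < ⊤ := lt_top_iff_ne_top.2 fun h => hne' (Subgroup.subgroupOf_eq_top.1 h)
    haveI := R.2.isNilpotent
    obtain ⟨n, hn, hnD⟩ := SetLike.exists_of_lt (normalizerCondition_of_isNilpotent (D.subgroupOf R) hlt)
    have h := Subgroup.mem_subgroupOf.1
      ((Subgroup.mem_normalizer_iff.1 hn ⟨r, hrR⟩).1 (Subgroup.mem_subgroupOf.2 hrD))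
    exact hnD (Subgroup.mem_subgroupOf.2 (hcent _ (mul_inv_eq_iff_eq_mul.1 (hiso (n : Y) h))))
  have hodd := Char.zStar (Char.oddInvol_of_isolated_sylow hr hrR fun g hg => hiso g (hRD hg))
  -- the odd core lies in `D`
  have hO : oddCore Y ≤ D := by
    let A : Subgroup Y :=
      { carrier := {x | ∃ i j : ℕ, x = a ^ i * b ^ j}
        one_mem' := ⟨0, 0, by simp⟩
        mul_mem' := by
          rintro _ _ ⟨i, j, rfl⟩ ⟨i', j', rfl⟩
          refine ⟨i + i', j + j', ?_⟩
          rw [pow_add, pow_add, (((show Commute a b from hab).symm.pow_pow j i').mul_mul_mul_comm _ _)]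
        inv_mem' := by
          rintro _ ⟨i, j, rfl⟩
          refine ⟨i, j, inv_eq_of_mul_eq_one_right ?_⟩
          rw [((show Commute a b from hab).symm.pow_pow j i).mul_mul_mul_comm, ← pow_add, ← pow_add, ← two_mul,
            ← two_mul, pow_mul, pow_mul, pow_two, pow_two, ha, hb, one_pow, one_pow, one_mul] }
    have hcases : ∀ x ∈ A, x = 1 ∨ x = a ∨ x = b ∨ x = a * b := by
      rintro _ ⟨i, j, rfl⟩
      rcases Nat.even_or_odd' i with ⟨k, rfl | rfl⟩ <;> rcases Nat.even_or_odd' j with ⟨l, rfl | rfl⟩ <;>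
        simp [pow_succ, pow_mul, ha, hb]
    haveI : IsMulCommutative A := ⟨⟨fun x y => Subtype.ext (by
      obtain ⟨i, j, h⟩ := x.2
      obtain ⟨i', j', h'⟩ := y.2
      show (x : Y) * y = y * x
      rw [h, h']
      have hc : Commute a b := hab
      exact ((((Commute.refl a).pow_pow i i').mul_right (hc.pow_pow i j')).mul_left
        ((hc.symm.pow_pow j i').mul_right ((Commute.refl b).pow_pow j j'))).eq)⟩⟩
    have hA : ¬ IsCyclic A := fun h => by
      obtain ⟨g, hg⟩ := h.exists_generator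
      have hg2 : orderOf g ∣ 2 := orderOf_dvd_of_pow_eq_one (Subtype.ext (by
        rw [SubgroupClass.coe_pow, pow_two]
        rcases hcases _ g.2 with h | h | h | h <;> rw [h]
        · simp
        · exact ha
        · exact hb
        · calc a * b * (a * b) = a * (b * a) * b := by group
            _ = a * (a * b) * b := by rw [hab]
            _ = a * a * (b * b) := by group
            _ = _ := by rw [ha, hb, one_mul]; rfl))
      have hc : Nat.card A ≤ 2 := by
        rw [← Subgroup.card_top (G := A), ← (Subgroup.eq_top_iff' (Subgroup.zpowers g)).2 hg, Nat.card_zpowers]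
        exact Nat.le_of_dvd (by norm_num) hg2
      let f : Fin 3 → A := ![1, ⟨a, 1, 0, by simp⟩, ⟨b, 0, 1, by simp⟩]
      have hf : Function.Injective f := by
        intro i j e
        have e' := congrArg Subtype.val e
        fin_cases i <;> fin_cases j <;>
          simp [f, ha1, hb1, hne, ha1.symm, hb1.symm, hne.symm] at e' <;> rfl
      have := Nat.card_le_card_of_injective f hf
      rw [Nat.card_fin] at this
      omega
    have hcop : (Nat.card A).Coprime (Nat.card (oddCore Y)) := by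
      obtain ⟨n, hn⟩ := IsPGroup.iff_card.1 (show IsPGroup 2 A from fun g => ⟨1, Subtype.ext (by
        rw [SubgroupClass.coe_pow, pow_one, pow_two]
        rcases hcases _ g.2 with h | h | h | h <;> rw [h]
        · simp
        · exact ha
        · exact hb
        · calc a * b * (a * b) = a * (b * a) * b := by group
            _ = a * (a * b) * b := by rw [hab]
            _ = a * a * (b * b) := by group
            _ = _ := by rw [ha, hb, one_mul]; rfl)⟩)
      rw [hn]
      exact Nat.Coprime.pow_left _ (Nat.coprime_two_left.2 (Char.card_oddCore_odd Y))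
    conv_lhs => rw [← Cfsg.Agent.S0058.result A (oddCore Y) hA (by rw [Subgroup.normalizer_eq_top]; exact le_top) hcop]
    refine iSup₂_le fun x hx n hn => ?_
    obtain ⟨hxA, hx1⟩ := hx
    have hcom := Subgroup.mem_centralizer_singleton_iff.1 (Subgroup.mem_inf.1 hn).2
    rcases hcases x hxA with h | h | h | h
    · exact absurd h hx1
    all_goals subst h
    · exact hca _ hcom
    · exact hcb _ hcom
    · exact hcab _ hcom
  rw [Subgroup.eq_top_iff']
  intro g
  refine hcent g (mul_inv_eq_iff_eq_mul.1 (hiso g ?_))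
  have h := hO (hodd g)
  have e : g * r * g⁻¹ = r⁻¹ * (r * g * r⁻¹ * g⁻¹) := by
    calc g * r * g⁻¹ = g * r⁻¹ * g⁻¹ := by rw [inv_eq_of_mul_eq_one_right hr2]
      _ = _ := by group
  rw [e]
  exact D.mul_mem (D.inv_mem hrD) h

/-- Two involutions that are not conjugate commute with an involution in the subgroup they generate. -/
theorem central_invol {K : Type*} [Group K] [Finite K] {u v : K} (hu : u * u = 1) (hv : v * v = 1)
    (hconj : ¬ IsConj u v) : ∃ w : K, w * w = 1 ∧ w ≠ 1 ∧ w * u = u * w ∧ w * v = v * w ∧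
      (∀ x : K, x * u = u * x → x * v = v * x → x * w = w * x) ∧ (IsConj u (w * v) ∨ IsConj v (w * v)) := by
  rcases Nat.even_or_odd (orderOf (u * v)) with h | h
  swap
  · exact absurd (Char.NoTwoP.isConj_of_odd_mul hu hv h) hconj
  obtain ⟨m, hm⟩ := h
  have hui : u⁻¹ = u := inv_eq_of_mul_eq_one_right hu
  have hvi : v⁻¹ = v := inv_eq_of_mul_eq_one_right hv
  set d := u * v with hd
  have hpos : 0 < orderOf d := orderOf_pos d
  have hm0 : m ≠ 0 := by omega
  have hww : d ^ m * d ^ m = 1 := by rw [← pow_add, ← hm, pow_orderOf_eq_one]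
  have hwi : (d ^ m)⁻¹ = d ^ m := inv_eq_of_mul_eq_one_right hww
  have hud : u * d * u⁻¹ = d⁻¹ := by
    rw [hd, mul_inv_rev, hui, hvi, ← mul_assoc, hu, one_mul]
  have hvd : v * d * v⁻¹ = d⁻¹ := by
    rw [hd, mul_inv_rev, hui, hvi, mul_assoc v (u * v), mul_assoc u v v, hv, mul_one]
  have huw : ∀ k : ℕ, u * d ^ k * u⁻¹ = (d ^ k)⁻¹ := fun k => by rw [← conj_pow, hud, inv_pow]
  have hvw : ∀ k : ℕ, v * d ^ k * v⁻¹ = (d ^ k)⁻¹ := fun k => by rw [← conj_pow, hvd, inv_pow]
  refine ⟨d ^ m, hww, fun e => ?_, ?_, ?_, fun x hxu hxv => ?_, ?_⟩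
  · have := Nat.le_of_dvd (Nat.pos_of_ne_zero hm0) (orderOf_dvd_of_pow_eq_one e)
    omega
  · exact (mul_inv_eq_iff_eq_mul.1 ((huw m).trans hwi)).symm
  · exact (mul_inv_eq_iff_eq_mul.1 ((hvw m).trans hwi)).symm
  · exact (((show Commute x u from hxu).mul_right (show Commute x v from hxv)).pow_right m).eq
  · have flip : ∀ (z : K) (k : ℕ), z * d ^ k * z⁻¹ = (d ^ k)⁻¹ → z * (d ^ k)⁻¹ = d ^ k * z := fun z k h =>
      mul_inv_eq_iff_eq_mul.1 (by
        calc z * (d ^ k)⁻¹ * z⁻¹ = (z * d ^ k * z⁻¹)⁻¹ := by group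
          _ = d ^ k := by rw [h, inv_inv])
    rcases Nat.even_or_odd' m with ⟨k, rfl | rfl⟩
    · refine Or.inr (isConj_iff.2 ⟨d ^ k, ?_⟩)
      rw [mul_assoc, flip v k (hvw k), ← mul_assoc, ← pow_add, ← two_mul]
    · refine Or.inl (isConj_iff.2 ⟨d ^ k, ?_⟩)
      rw [mul_assoc, flip u k (huw k), ← mul_assoc, ← pow_add, ← two_mul, pow_succ, mul_assoc (d ^ (2 * k))]
      rw [hd, mul_assoc u v v, hv, mul_one]

end Cfsg.Agent.Lie.PSpFourThreeFull.SpSix
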