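import Cfsg.Agent.Lib.Lie.PSpFourThreeFull.SpSix.Fusion
import Cfsg.Agent.Lib.Lie.PSpFourThreeAmalgam.Pair
import Cfsg.Agent.S0058

/-!
The centraliser of `t`: the normaliser of the radical, and the Sylow two subgroup.
-/

set_option autoImplicit false
set_option maxHeartbeats 1000000

universe u

namespace Cfsg.Agent.Lie.PSpFourThreeFull.SpSix

/-! ### The radical inside the model -/

theorem puMul_table : ∀ q ∈ ([(4, 32), (4, 36), (32, 4), (36, 32), (32, 36), (36, 4)] : List (ℕ × ℕ)),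
    puMul (4, 32) q = q ∧ puMul q (4, 32) = q := by decide +kernel

theorem pu_mem {x : Sp} (hx : x ∈ XT) :
    pu (enc x) ∈ ([(4, 32), (4, 36), (32, 4), (36, 32), (32, 36), (36, 4)] : List (ℕ × ℕ)) :=
  (xh_rows (mem_XT.1 hx)).2.2.2.2.2.2

theorem inK_iff (a : ℕ) : inK a = true ↔ act 1 a = 1 ∧ act 2 a = 2 ∧ pu a = (4, 32) := by
  simp [inK, and_assoc]

/-- The radical. -/
def KK : Subgroup Sp :=
  ofPred (fun x => x ∈ XT ∧ inK (enc x) = true)
    ⟨one_mem _, by rw [enc_one]; decide +kernel⟩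
    fun x y ⟨hx, hx'⟩ ⟨hy, hy'⟩ => ⟨mul_mem hx hy, by
      obtain ⟨a1, a2, a3⟩ := (inK_iff _).1 hx'
      obtain ⟨b1, b2, b3⟩ := (inK_iff _).1 hy'
      refine (inK_iff _).2 ⟨?_, ?_, ?_⟩
      · rw [← act_act 1 (by norm_num), a1, b1]
      · rw [← act_act 2 (by norm_num), a2, b2]
      · rw [pu_mul hx hy, a3, b3]; decide +kernel⟩

theorem mem_KK {x : Sp} : x ∈ KK ↔ x ∈ XT ∧ inK (enc x) = true := Iff.rfl

theorem KK_le_SS : KK ≤ SS := fun _ hx =>
  ⟨(mem_KK.1 hx).1, (xh_intr (mem_XT.1 (mem_KK.1 hx).1)).2.2 (mem_KK.1 hx).2⟩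

theorem card_KK : Nat.card KK = 128 := by
  rw [show Nat.card KK = _ from Nat.card_congr (Equiv.subtypeEquivRight fun x => by
    rw [mem_KK, mem_XT]), card_filter _ fun a h _ => (xh_ok h).1]
  exact xh_counts.2.2.1

theorem card_XT : Nat.card XT = 4608 := by
  rw [show Nat.card XT = Nat.card {x : Sp // enc x ∈ xhList ∧ (fun _ => true) (enc x) = true} from
    Nat.card_congr (Equiv.subtypeEquivRight fun x => by rw [mem_XT]; simp),
    card_filter (fun _ => true) fun a h _ => (xh_ok h).1, List.filter_true]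
  exact xh_counts.1

/-- Two elements with the same action modulo the radical differ by an element of it. -/
theorem coset_KK {x y : Sp} (hx : x ∈ XT) (hy : y ∈ XT) (h1 : act 1 (enc x) = act 1 (enc y))
    (h2 : act 2 (enc x) = act 2 (enc y)) (hp : pu (enc x) = pu (enc y)) : x * y⁻¹ ∈ KK := by
  refine mem_KK.2 ⟨mul_mem hx (inv_mem hy), (inK_iff _).2 ⟨?_, ?_, ?_⟩⟩
  · rw [← act_act 1 (by norm_num), h1, act_act 1 (by norm_num), mul_inv_cancel, enc_one]
    decide +kernel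
  · rw [← act_act 2 (by norm_num), h2, act_act 2 (by norm_num), mul_inv_cancel, enc_one]
    decide +kernel
  · rw [pu_mul hx (inv_mem hy), hp, ← pu_mul hy (inv_mem hy), mul_inv_cancel, pu_one]

theorem xT_invol : xT * xT = 1 := enc_inj (by rw [enc_mul, xT, enc_mk, enc_one]; decide +kernel)

theorem xT_mem : xT ∈ XT := Subgroup.mem_centralizer_singleton_iff.2 rfl

theorem xL_mem : xL ∈ XT := mem_XT.2 (mem_xhList (by rw [xL, enc_mk]; decide +kernel))
theorem xU_mem : xU ∈ XT := mem_XT.2 (mem_xhList (by rw [xU, enc_mk]; decide +kernel))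
theorem xSL_mem : xSL ∈ XT := mem_XT.2 (mem_xhList (by rw [xSL, enc_mk]; decide +kernel))
theorem xSU_mem : xSU ∈ XT := mem_XT.2 (mem_xhList (by rw [xSU, enc_mk]; decide +kernel))

theorem levi_rel : xL ^ 3 = 1 ∧ xU ^ 3 = 1 ∧ xL * xU = xU * xL ∧ xSU * xSU = 1 ∧ xSL * xSL = 1 ∧
    xSU * xSL = xSL * xSU ∧ xSU * xL = xL * xSU ∧ xSU * xU = xU * xU * xSU ∧
    xSL * xL = xL * xL * xSL ∧ xSL * xU = xU * xSL := by
  refine ⟨?_, ?_, ?_, ?_, ?_, ?_, ?_, ?_, ?_, ?_⟩
  · exact (congrArg (xL ^ ·) order_xL.symm).trans (pow_orderOf_eq_one _)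
  · exact (congrArg (xU ^ ·) order_xU.symm).trans (pow_orderOf_eq_one _)
  all_goals
    refine enc_inj ?_
    simp only [enc_mul, enc_one, xL, xU, xSL, xSU, enc_mk]
    decide +kernel

/-- Modulo the radical an element is a product of Levi elements. -/
theorem levi_cases {x : Sp} (hx : x ∈ XT) : ∃ k ∈ KK, ∃ i j : ℕ,
    x = k * (xL ^ i * xU ^ j) ∨ x = k * (xL ^ i * xU ^ j * xSU) ∨ x = k * (xL ^ i * xU ^ j * xSL) ∨
      x = k * (xL ^ i * xU ^ j * (xSU * xSL)) := by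
  have hc := xh_check (mem_XT.1 hx)
  simp only [xhCheck, Bool.and_eq_true] at hc
  have e := hc.2
  simp only [List.any_eq_true, Bool.and_eq_true, beq_iff_eq] at e
  obtain ⟨p, hp, q, hq, s, hs, ⟨e1, e2⟩, e3⟩ := e
  have hP : ∃ i : ℕ, enc (xL ^ i) = p := by
    simp only [List.mem_cons, List.not_mem_nil, or_false] at hp
    rcases hp with rfl | rfl | rfl
    · exact ⟨0, by rw [pow_zero, enc_one]⟩
    · exact ⟨1, by rw [pow_one, xL, enc_mk]⟩
    · exact ⟨2, by rw [pow_two, enc_mul, xL, enc_mk]⟩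
  have hQ : ∃ j : ℕ, enc (xU ^ j) = q := by
    simp only [List.mem_cons, List.not_mem_nil, or_false] at hq
    rcases hq with rfl | rfl | rfl
    · exact ⟨0, by rw [pow_zero, enc_one]⟩
    · exact ⟨1, by rw [pow_one, xU, enc_mk]⟩
    · exact ⟨2, by rw [pow_two, enc_mul, xU, enc_mk]⟩
  obtain ⟨i, rfl⟩ := hP
  obtain ⟨j, rfl⟩ := hQ
  have key : ∀ w : Sp, w ∈ XT → enc w = s → ∃ k ∈ KK, x = k * (xL ^ i * xU ^ j * w) := fun w hw hws => by
    have hm : xL ^ i * xU ^ j * w ∈ XT := mul_mem (mul_mem (pow_mem xL_mem i) (pow_mem xU_mem j)) hw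
    refine ⟨x * (xL ^ i * xU ^ j * w)⁻¹, coset_KK hx hm ?_ ?_ ?_, by rw [inv_mul_cancel_right]⟩
    all_goals rw [enc_mul, enc_mul, hws]
    exacts [e1.symm, e2.symm, e3.symm]
  simp only [List.mem_cons, List.not_mem_nil, or_false] at hs
  rcases hs with rfl | rfl | rfl | rfl
  · obtain ⟨k, hk, rfl⟩ := key 1 (one_mem _) enc_one
    exact ⟨k, hk, i, j, Or.inl (by rw [mul_one])⟩
  · obtain ⟨k, hk, rfl⟩ := key xSL xSL_mem (by rw [xSL, enc_mk])
    exact ⟨k, hk, i, j, Or.inr (Or.inr (Or.inl rfl))⟩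
  · obtain ⟨k, hk, rfl⟩ := key xSU xSU_mem (by rw [xSU, enc_mk])
    exact ⟨k, hk, i, j, Or.inr (Or.inl rfl)⟩
  · obtain ⟨k, hk, rfl⟩ := key (xSU * xSL) (mul_mem xSU_mem xSL_mem) (by
      rw [levi_rel.2.2.2.2.2.1, enc_mul, xSU, xSL, enc_mk, enc_mk])
    exact ⟨k, hk, i, j, Or.inr (Or.inr (Or.inr rfl))⟩

theorem levi_free {i j : ℕ} (h : xL ^ i * xU ^ j ∈ KK) : 3 ∣ i ∧ 3 ∣ j := by
  rw [pow_eq_pow_mod i levi_rel.1, pow_eq_pow_mod j levi_rel.2.1] at h
  have hi := Nat.mod_lt i (by norm_num : 3 > 0)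
  have hj := Nat.mod_lt j (by norm_num : 3 > 0)
  have hk := (mem_KK.1 h).2
  rw [enc_mul] at hk
  obtain ⟨a, ha⟩ : ∃ a, i % 3 = a := ⟨_, rfl⟩
  obtain ⟨b, hb⟩ : ∃ b, j % 3 = b := ⟨_, rfl⟩
  rw [ha, hb] at hk
  rw [ha] at hi
  rw [hb] at hj
  interval_cases a <;> interval_cases b <;>
    first
    | exact ⟨by omega, by omega⟩
    | (exfalso; revert hk
       simp only [pow_zero, pow_one, pow_two, enc_one, enc_mul, xL, xU, enc_mk]
       decide +kernel)

namespace Emb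

variable {G : Type u} [Group G] (d : Emb G)

/-- The centraliser of `t`. -/
def XG : Subgroup G := Subgroup.centralizer ({d.φ xT} : Set G)

theorem mem_XG {g : G} : g ∈ d.XG ↔ g * d.φ xT = d.φ xT * g := Subgroup.mem_centralizer_singleton_iff

theorem map_mem_XG {x : Sp} (hx : x ∈ XT) : d.φ x ∈ d.XG := by
  rw [mem_XG, ← map_mul, ← map_mul, Subgroup.mem_centralizer_singleton_iff.1 hx]

theorem of_mem_XG {g : G} (hg : g ∈ d.XG) (hr : g ∈ d.φ.range) : ∃ x ∈ XT, d.φ x = g := by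
  obtain ⟨x, rfl⟩ := hr
  refine ⟨x, Subgroup.mem_centralizer_singleton_iff.2 (d.inj ?_), rfl⟩
  rw [map_mul, map_mul]
  exact d.mem_XG.1 hg

/-- An element of the centraliser of `t` sending the three transvections among themselves preserves the radical. -/
theorem intr [Finite G] {n : G} (hn : n ∈ d.XG)
    (hz : ∀ z : Sp, enc z ∈ zTr → ∃ w ∈ XT, n⁻¹ * d.φ z * n = d.φ w)
    {k k' : Sp} (hk : k ∈ KK) (hk' : k' ∈ XT) (e : n * d.φ k * n⁻¹ = d.φ k') : k' ∈ KK := by
  have hn' := d.mem_XG.1 hn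
  have hconjT : n * d.φ xT * n⁻¹ = d.φ xT := by rw [hn', mul_inv_cancel_right]
  have hconjT' : n⁻¹ * d.φ xT * n = d.φ xT := by rw [mul_assoc, ← hn', inv_mul_cancel_left]
  obtain ⟨hkT, hkK⟩ := mem_KK.1 hk
  have hint : intrK (enc k) = true := by rw [(xh_intr (mem_XT.1 hkT)).1]; exact hkK
  simp only [intrK, Bool.and_eq_true, List.all_eq_true] at hint
  obtain ⟨hkz, hkq⟩ := hint
  refine mem_KK.2 ⟨hk', ?_⟩
  rw [← (xh_intr (mem_XT.1 hk')).1]
  simp only [intrK, Bool.and_eq_true, List.all_eq_true]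
  refine ⟨fun a ha => ?_, ?_⟩
  · have haok : okB a = true := by
      simp only [zTr, List.mem_cons, List.not_mem_nil, or_false] at ha
      rcases ha with rfl | rfl | rfl <;> decide +kernel
    obtain ⟨w, hwT, hw⟩ := hz (SpSix.mk a haok) (by rw [enc_mk]; exact ha)
    have ha2 : cm a a = cid ∧ cnt a = 64 ∧ cnt (cm a cT) = 48 ∧ cm a cT = cm cT a := by
      simp only [zTr, List.mem_cons, List.not_mem_nil, or_false] at ha
      rcases ha with rfl | rfl | rfl <;> decide +kernel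
    have hzz : SpSix.mk a haok * SpSix.mk a haok = 1 := enc_inj (by rw [enc_mul, enc_mk, ha2.1, enc_one])
    have hww : w * w = 1 := d.inj (by
      rw [map_mul, map_one, ← hw]
      calc n⁻¹ * d.φ (SpSix.mk a haok) * n * (n⁻¹ * d.φ (SpSix.mk a haok) * n)
          = n⁻¹ * (d.φ (SpSix.mk a haok) * d.φ (SpSix.mk a haok)) * n := by group
        _ = 1 := by rw [← map_mul, hzz, map_one]; group)
    have hc1 : cnt (enc w) = 64 := by
      rw [d.cnt_fusion (u := SpSix.mk a haok) (v := w) hzz (g := n⁻¹) (by rw [inv_inv, hw]), enc_mk]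
      exact ha2.2.1
    have hc2 : cnt (enc (w * xT)) = 48 := by
      rw [d.cnt_fusion (u := SpSix.mk a haok * xT) (v := w * xT) ?_ (g := n⁻¹) ?_, enc_mul, enc_mk, xT, enc_mk]
      · exact ha2.2.2.1
      · have hc : SpSix.mk a haok * xT = xT * SpSix.mk a haok := enc_inj (by
          rw [enc_mul, enc_mul, enc_mk, xT, enc_mk]; exact ha2.2.2.2)
        rw [← mul_assoc, mul_assoc (SpSix.mk a haok) xT, ← hc, ← mul_assoc, hzz, one_mul, xT_invol]
      · rw [map_mul, map_mul, inv_inv, ← hw]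
        calc n⁻¹ * (d.φ (SpSix.mk a haok) * d.φ xT) * n = n⁻¹ * d.φ (SpSix.mk a haok) * n * (n⁻¹ * d.φ xT * n) := by group
          _ = _ := by rw [hconjT']
    have hwz : enc w ∈ zTr := by
      refine ((xh_intr (mem_XT.1 hwT)).2.1 ?_).1 ?_
      · rw [beq_iff_eq, ← enc_mul, hww, enc_one]
      · rw [enc_mul, xT, enc_mk] at hc2
        simp [hc1, hc2]
    have hcom : k * w = w * k := enc_inj (by
      rw [enc_mul, enc_mul]; exact Nat.eq_of_beq_eq_true (hkz _ hwz))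
    have h2 : k' * SpSix.mk a haok = SpSix.mk a haok * k' := d.inj (by
      rw [map_mul, map_mul, ← e]
      have hb : d.φ (SpSix.mk a haok) = n * d.φ w * n⁻¹ := by rw [← hw]; group
      rw [hb]
      calc n * d.φ k * n⁻¹ * (n * d.φ w * n⁻¹) = n * d.φ (k * w) * n⁻¹ := by rw [map_mul]; group
        _ = n * d.φ (w * k) * n⁻¹ := by rw [hcom]
        _ = _ := by rw [map_mul]; group)
    have := commB_of_commute h2
    rwa [enc_mk] at this
  · simp only [Bool.or_eq_true, beq_iff_eq, Bool.and_eq_true] at hkq ⊢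
    have hsq : d.φ (k' * k') = n * d.φ (k * k) * n⁻¹ := by
      rw [map_mul, ← e, map_mul]; group
    rcases hkq with h | ⟨h, hcn⟩
    · left
      have hk2 : k * k = xT := enc_inj (by rw [enc_mul, h, xT, enc_mk])
      rw [hk2, hconjT] at hsq
      rw [← enc_mul, d.inj hsq, xT, enc_mk]
    · right
      have hk2 : k * k = 1 := enc_inj (by rw [enc_mul, h, enc_one])
      rw [hk2, map_one, mul_one, mul_inv_cancel] at hsq
      have hk'2 : k' * k' = 1 := d.inj (by rw [hsq, map_one])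
      refine ⟨by rw [← enc_mul, hk'2, enc_one], ?_⟩
      have hct : k * xT = xT * k := Subgroup.mem_centralizer_singleton_iff.1 hkT
      have c1 : cnt (enc k') = cnt (enc k) := d.cnt_fusion hk2 e
      have c2 : cnt (enc (k' * xT)) = cnt (enc (k * xT)) := d.cnt_fusion (g := n) (by
        rw [mul_assoc, ← mul_assoc xT, ← hct, mul_assoc, xT_invol, mul_one, hk2]) (by
        rw [map_mul, map_mul, ← e]
        calc n * (d.φ k * d.φ xT) * n⁻¹ = n * d.φ k * n⁻¹ * (n * d.φ xT * n⁻¹) := by group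
          _ = _ := by rw [hconjT])
      rw [enc_mul, enc_mul, xT, enc_mk] at c2
      rwa [c1, c2]

/-- The radical in the ambient group. -/
def KG : Subgroup G := KK.map d.φ

theorem XT_normalizes [Finite G] {x : Sp} (hx : x ∈ XT) : d.φ x ∈ Subgroup.normalizer (d.KG : Set G) := by
  have hz : ∀ y ∈ XT, ∀ k ∈ KK, y * k * y⁻¹ ∈ KK := fun y hy k hk =>
    d.intr (n := d.φ y) (d.map_mem_XG hy)
      (fun z hz => ⟨y⁻¹ * z * y, mul_mem (mul_mem (inv_mem hy) (mem_XT.2 (mem_xhList (by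
        simp only [zTr, List.mem_cons, List.not_mem_nil, or_false] at hz
        rcases hz with h | h | h <;> rw [h] <;> decide +kernel)))) hy, by rw [map_mul, map_mul, map_inv]⟩)
      hk (mul_mem (mul_mem hy (mem_KK.1 hk).1) (inv_mem hy)) (by rw [map_mul, map_mul, map_inv])
  rw [Subgroup.mem_normalizer_iff]
  intro g
  constructor
  · rintro ⟨k, hk, rfl⟩
    exact ⟨x * k * x⁻¹, hz x hx k hk, by rw [map_mul, map_mul, map_inv]⟩
  · rintro ⟨k, hk, hkg⟩
    refine ⟨x⁻¹ * k * (x⁻¹)⁻¹, hz _ (inv_mem hx) k hk, ?_⟩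
    rw [map_mul, map_mul, inv_inv, map_inv, hkg]
    group

/-- The normaliser of the radical in the centraliser of `t`. -/
def NG : Subgroup G := d.XG ⊓ Subgroup.normalizer (d.KG : Set G)

theorem KG_le_NG : d.KG ≤ d.NG := le_inf
  (by rintro _ ⟨k, hk, rfl⟩; exact d.map_mem_XG (mem_KK.1 hk).1) Subgroup.le_normalizer

instance : (d.KG.subgroupOf d.NG).Normal := by
  refine (Subgroup.normal_subgroupOf_iff d.KG_le_NG).2 fun k g hk hg => ?_
  exact (Subgroup.mem_normalizer_iff.1 hg.2 k).1 hk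

/-- A three-subgroup of the centraliser of `t` containing a coset representative is small. -/
theorem not_27 [Finite G] : ¬ 27 ∣ Nat.card d.NG := fun h => by
  haveI : Fact (Nat.Prime 3) := ⟨Nat.prime_three⟩
  have hy : d.φ xL ∈ d.NG := ⟨d.map_mem_XG xL_mem, d.XT_normalizes xL_mem⟩
  obtain ⟨R, hR⟩ := (IsPGroup.of_card (n := 1) (by
    rw [Nat.card_zpowers, Subgroup.orderOf_mk, d.orderOf_φ, order_xL, pow_one] :
      Nat.card (Subgroup.zpowers (⟨_, hy⟩ : d.NG)) = 3 ^ 1)).exists_le_sylow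
  have hle := d.three_group_le (R := (R : Subgroup d.NG).map d.NG.subtype) (R.2.map _) order_xL
    ⟨_, hR (Subgroup.mem_zpowers _), rfl⟩
  have hsub : (R : Subgroup d.NG).map d.NG.subtype ≤ XT.map d.φ := fun g hg => by
    obtain ⟨r, hr, rfl⟩ := hg
    obtain ⟨x, hx, e⟩ := d.of_mem_XG r.2.1 (hle ⟨r, hr, rfl⟩)
    exact ⟨x, hx, e⟩
  have h2 := Subgroup.card_dvd_of_le hsub
  rw [Subgroup.card_map_of_injective d.NG.subtype_injective, Subgroup.card_map_of_injective d.inj, card_XT] at h2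
  have h3 : 3 ^ 3 ∣ Nat.card (R : Subgroup d.NG) :=
    (Sylow.pow_dvd_card_of_pow_dvd_card R (by simpa using h))
  have := h3.trans h2
  omega

end Emb

end Cfsg.Agent.Lie.PSpFourThreeFull.SpSix
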