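import Cfsg.Agent.Lib.Lie.PSpFourThreeFull.SpSix.Data
import Cfsg.Agent.S0245

/-!
`Sp₆(2)`: classes of involutions, a Sylow two and a Sylow three subgroup.
-/

set_option autoImplicit false

namespace Cfsg.Agent.Lie.PSpFourThreeFull.SpSix

/-- A submonoid of a finite group is a subgroup. -/
def ofPred (p : Sp → Prop) (h1 : p 1) (hm : ∀ x y, p x → p y → p (x * y)) : Subgroup Sp where
  carrier := {x | p x}
  one_mem' := h1
  mul_mem' := fun {x y} hx hy => hm x y hx hy
  inv_mem' := fun {x} hx => by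
    have hpow : ∀ n : ℕ, p (x ^ n) := fun n => by
      induction n with
      | zero => rw [pow_zero]; exact h1
      | succ n ih => rw [pow_succ]; exact hm _ _ ih hx
    have e : x⁻¹ = x ^ (orderOf x - 1) := inv_eq_of_mul_eq_one_right (by
      rw [← pow_succ', Nat.sub_add_cancel (orderOf_pos x), pow_orderOf_eq_one])
    show p x⁻¹
    rw [e]; exact hpow _

theorem mem_ofPred {p : Sp → Prop} {h1 hm} {x : Sp} : x ∈ ofPred p h1 hm ↔ p x := Iff.rfl

theorem card_Sp : Nat.card Sp = 1451520 := by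
  rw [show Nat.card Sp = _ from Cfsg.Agent.S0245.result (ZMod.card 2) 3]
  decide +kernel

/-! ### The representatives -/

theorem ok_of_mem {a : ℕ} (h : a ∈ ([cR, cT, cC, cB, eL, eU, sL, sU, cZ, tvc 2, tvc 3, tvc 4, tvc 7, 9131004162,
    4328915976] : List ℕ)) : okB a = true := List.all_eq_true.1 elems_ok a h

def xR : Sp := mk cR (ok_of_mem (by simp))
def xT : Sp := mk cT (ok_of_mem (by simp))
def xC : Sp := mk cC (ok_of_mem (by simp))
def xB : Sp := mk cB (ok_of_mem (by simp))
def xL : Sp := mk eL (ok_of_mem (by simp))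
def xU : Sp := mk eU (ok_of_mem (by simp))
def xSL : Sp := mk sL (ok_of_mem (by simp))
def xSU : Sp := mk sU (ok_of_mem (by simp))
def xZ : Sp := mk cZ (ok_of_mem (by simp))
def xPerm : Sp := mk 9131004162 (ok_of_mem (by simp))
def xInv : Sp := mk 4328915976 (ok_of_mem (by simp))

theorem enc_pow_three (x : Sp) : enc (x ^ 3) = cm (cm (enc x) (enc x)) (enc x) := by
  rw [pow_three', enc_mul, enc_mul]

theorem order_three {a : ℕ} (h : okB a = true) (h3 : cm (cm a a) a = cid) (h1 : a ≠ cid) :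
    orderOf (mk a h) = 3 := by
  haveI : Fact (Nat.Prime 3) := ⟨Nat.prime_three⟩
  refine orderOf_eq_prime (enc_inj (by rw [enc_pow_three, enc_mk, h3, enc_one])) fun e => h1 ?_
  rw [← enc_mk a h, e, enc_one]

theorem order_xL : orderOf xL = 3 := order_three _ (by decide +kernel) (by decide +kernel)
theorem order_xU : orderOf xU = 3 := order_three _ (by decide +kernel) (by decide +kernel)
theorem order_xZ : orderOf xZ = 3 := order_three _ (by decide +kernel) (by decide +kernel)
theorem order_xPerm : orderOf xPerm = 3 := order_three _ (by decide +kernel) (by decide +kernel)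

theorem commute_of_commB {x y : Sp} (h : commB (enc x) (enc y) = true) : x * y = y * x :=
  enc_inj (by rw [enc_mul, enc_mul]; exact Nat.eq_of_beq_eq_true h)

theorem commB_of_commute {x y : Sp} (h : x * y = y * x) : commB (enc x) (enc y) = true := by
  show Nat.beq _ _ = true
  rw [← enc_mul, ← enc_mul, h, Nat.beq_eq]

/-! ### The invariant of a class of involutions -/

theorem filter_range_card (n : ℕ) (p : ℕ → Bool) :
    ((List.range n).filter p).length = ((Finset.range n).filter fun v => p v = true).card := by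
  rw [← List.toFinset_card_of_nodup (List.nodup_range.filter p)]
  congr 1
  ext v
  simp

theorem cnt_eq (a : ℕ) : cnt a = ((Finset.range 64).filter fun v => Nat.beq (act v a) v = true).card +
    ((Finset.range 64).filter fun v => (!form v (act v a)) = true).card := by
  unfold cnt
  rw [filter_range_card, filter_range_card]

theorem cnt_conj (h x : Sp) : cnt (enc (h * x * h⁻¹)) = cnt (enc x) := by
  rw [cnt_eq, cnt_eq]
  have key : ∀ v < 64, act v (enc (h * x * h⁻¹)) = act (act (act v (enc h)) (enc x)) (enc h⁻¹) := fun v hv => by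
    rw [act_act v hv, act_act v hv]
  have hid : ∀ v < 64, ∀ g : Sp, act (act v (enc g)) (enc g⁻¹) = v := fun v hv g => by
    rw [act_act v hv, mul_inv_cancel, enc_one]
    exact (by decide +kernel : ∀ w < 64, act w cid = w) v hv
  refine congrArg₂ (· + ·) ?_ ?_
  · refine Finset.card_nbij' (fun v => act v (enc h)) (fun v => act v (enc h⁻¹)) ?_ ?_ ?_ ?_
    · intro v hv
      simp only [Finset.mem_coe, Finset.mem_filter, Finset.mem_range, Nat.beq_eq] at hv ⊢
      refine ⟨act_lt v hv.1 h, ?_⟩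
      have h2 := congrArg (fun w => act w (enc h)) hv.2
      simp only [key v hv.1] at h2
      have hb := hid (act (act v (enc h)) (enc x)) (act_lt _ (act_lt v hv.1 h) x) h⁻¹
      rw [inv_inv] at hb
      exact hb.symm.trans h2
    · intro v hv
      simp only [Finset.mem_coe, Finset.mem_filter, Finset.mem_range, Nat.beq_eq] at hv ⊢
      refine ⟨act_lt v hv.1 h⁻¹, ?_⟩
      rw [key _ (act_lt v hv.1 h⁻¹)]
      have hb := hid v hv.1 h⁻¹
      rw [inv_inv] at hb
      rw [hb, hv.2]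
    · intro v hv
      simp only [Finset.mem_coe, Finset.mem_filter, Finset.mem_range] at hv
      exact hid v hv.1 h
    · intro v hv
      simp only [Finset.mem_coe, Finset.mem_filter, Finset.mem_range] at hv
      simpa using hid v hv.1 h⁻¹
  · refine Finset.card_nbij' (fun v => act v (enc h)) (fun v => act v (enc h⁻¹)) ?_ ?_ ?_ ?_
    · intro v hv
      simp only [Finset.mem_coe, Finset.mem_filter, Finset.mem_range] at hv ⊢
      refine ⟨act_lt v hv.1 h, ?_⟩
      have hl := act_lt _ (act_lt v hv.1 h) x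
      have hb := act_form (act v (enc h)) (act (act v (enc h)) (enc x)) (act_lt v hv.1 h) hl h⁻¹
      rw [hid v hv.1 h, ← key v hv.1] at hb
      rw [← hb]
      exact hv.2
    · intro v hv
      simp only [Finset.mem_coe, Finset.mem_filter, Finset.mem_range] at hv ⊢
      refine ⟨act_lt v hv.1 h⁻¹, ?_⟩
      rw [key _ (act_lt v hv.1 h⁻¹)]
      have hb := hid v hv.1 h⁻¹
      rw [inv_inv] at hb
      rw [hb, act_form v _ hv.1 (act_lt v hv.1 x) h⁻¹]
      exact hv.2
    · intro v hv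
      simp only [Finset.mem_coe, Finset.mem_filter, Finset.mem_range] at hv
      exact hid v hv.1 h
    · intro v hv
      simp only [Finset.mem_coe, Finset.mem_filter, Finset.mem_range] at hv
      simpa using hid v hv.1 h⁻¹

/-! ### The centraliser of `t` and its Sylow subgroup -/

theorem commT_iff (x : Sp) : x * xT = xT * x ↔ enc x ∈ xhList := by
  constructor
  · intro h
    have h' := congrArg enc h
    rw [enc_mul, enc_mul, xT, enc_mk] at h'
    exact mem_xhList h'
  · intro h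
    have hc := List.all_eq_true.1 xh_all _ h
    simp only [xhCheck, Bool.and_eq_true] at hc
    refine commute_of_commB ?_
    rw [xT, enc_mk]
    exact hc.1.1.1.1.1.1.1.1.1.1.2

theorem card_filter (p : ℕ → Bool) (hp : ∀ a ∈ xhList, p a = true → okB a = true) :
    Nat.card {x : Sp // enc x ∈ xhList ∧ p (enc x) = true} = (xhList.filter p).length := by
  have hn := xh_nodup.filter p
  rw [← List.toFinset_card_of_nodup hn]
  let f : {x : Sp // enc x ∈ xhList ∧ p (enc x) = true} → {a // a ∈ (xhList.filter p).toFinset} :=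
    fun x => ⟨enc x.1, List.mem_toFinset.2 (List.mem_filter.2 x.2)⟩
  have hf : Function.Bijective f := ⟨fun x y e => Subtype.ext (enc_inj (congrArg Subtype.val e)), fun a => by
    obtain ⟨h1, h2⟩ := List.mem_filter.1 (List.mem_toFinset.1 a.2)
    have hok := hp a.1 h1 h2
    exact ⟨⟨mk a.1 hok, by rw [enc_mk]; exact ⟨h1, h2⟩⟩, Subtype.ext (enc_mk a.1 hok)⟩⟩
  rw [Nat.card_congr (Equiv.ofBijective f hf), Nat.card_eq_fintype_card, Fintype.card_coe]

/-- The facts checked on the list. -/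
theorem xh_check {a : ℕ} (h : a ∈ xhList) : xhCheck a = true := List.all_eq_true.1 xh_all a h

theorem xh_ok {a : ℕ} (h : a ∈ xhList) : okB a = true ∧ commB a cT = true := by
  have hc := xh_check h
  simp only [xhCheck, Bool.and_eq_true] at hc
  exact hc.1.1.1.1.1.1.1.1.1.1

theorem xh_rows {a : ℕ} (h : a ∈ xhList) : act 1 a < 4 ∧ act 2 a < 4 ∧ form (act 4 a) 1 = false ∧
    form (act 4 a) 2 = false ∧ form (act 32 a) 1 = false ∧ form (act 32 a) 2 = false ∧
    pu a ∈ [(4, 32), (4, 36), (32, 4), (36, 32), (32, 36), (36, 4)] := by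
  have hc := xh_check h
  simp only [xhCheck, Bool.and_eq_true, decide_eq_true_eq, Bool.not_eq_true', List.contains_iff_mem] at hc
  obtain ⟨⟨⟨⟨⟨⟨⟨⟨⟨⟨-, h1, h2⟩, ⟨⟨⟨h41, h42⟩, h321⟩, h322⟩, hp⟩, -⟩, -⟩, -⟩, -⟩, -⟩, -⟩, -⟩, -⟩ := hc
  exact ⟨h1, h2, h41, h42, h321, h322, hp⟩

theorem xh_intr {a : ℕ} (h : a ∈ xhList) : intrK a = inK a ∧
    ((cm a a == cid) = true → ((cnt a == 64 && cnt (cm a cT) == 48) = true ↔ a ∈ zTr)) ∧
    (inK a = true → inS a = true) := by
  have hc := xh_check h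
  simp only [xhCheck, Bool.and_eq_true] at hc
  obtain ⟨⟨⟨⟨⟨⟨⟨⟨-, e1⟩, e2⟩, e3⟩, -⟩, -⟩, -⟩, -⟩, -⟩ := hc
  refine ⟨beq_iff_eq.1 e1, fun hq => ?_, fun hk => ?_⟩
  · rw [hq] at e2
    rw [Bool.not_true, Bool.false_or, beq_iff_eq] at e2
    rw [e2, List.contains_iff_mem]
  · rwa [hk, Bool.not_true, Bool.false_or] at e3

theorem xh_classify {a : ℕ} (h : a ∈ xhList) (hS : inS a = true) (hi : involB a = true) :
    ∃ b ∈ hTab, cm b a = cm (repOf a) b := by
  have hc := xh_check h
  simp only [xhCheck, Bool.and_eq_true] at hc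
  obtain ⟨⟨⟨⟨⟨-, e⟩, -⟩, -⟩, -⟩, -⟩ := hc
  rw [hS, hi, Bool.and_self, Bool.not_true, Bool.false_or, List.any_eq_true] at e
  obtain ⟨b, hb, he⟩ := e
  exact ⟨b, hb, beq_iff_eq.1 he⟩

/-- The centraliser of `t`. -/
def XT : Subgroup Sp := Subgroup.centralizer ({xT} : Set Sp)

theorem mem_XT {x : Sp} : x ∈ XT ↔ enc x ∈ xhList :=
  Subgroup.mem_centralizer_singleton_iff.trans (commT_iff x)

theorem act_low {x : Sp} (hx : x ∈ XT) : ∀ w < 4, act w (enc x) < 4 := by
  obtain ⟨h1, h2, -⟩ := xh_rows (mem_XT.1 hx)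
  intro w hw
  interval_cases w
  · simp [act, bv]
  · exact h1
  · exact h2
  · rw [show (3 : ℕ) = 1 ^^^ 2 from rfl, act_xor _ _ (by norm_num) (by norm_num)]
    exact Nat.xor_lt_two_pow (n := 2) h1 h2

theorem pu_mul {x y : Sp} (hx : x ∈ XT) (hy : y ∈ XT) :
    pu (enc (x * y)) = puMul (pu (enc x)) (pu (enc y)) := by
  obtain ⟨-, -, f41, f42, f321, f322, -⟩ := xh_rows (mem_XT.1 hx)
  have step : ∀ w < 64, form w 1 = false → form w 2 = false → Nat.land (act w (enc y)) 36 =
      Nat.xor (Nat.mul (bv (Nat.land w 36) 2) (Nat.land (act 4 (enc y)) 36))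
        (Nat.mul (bv (Nat.land w 36) 5) (Nat.land (act 32 (enc y)) 36)) := by
    intro w hw g1 g2
    have hd := perp_decomp w hw g1 g2
    have hbv : bv (Nat.land w 36) 2 = bv w 2 ∧ bv (Nat.land w 36) 5 = bv w 5 ∧ w &&& 3 < 4 ∧
        (bv w 2 = 0 ∨ bv w 2 = 1) ∧ (bv w 5 = 0 ∨ bv w 5 = 1) :=
      (by decide +kernel : ∀ w < 64, bv (Nat.land w 36) 2 = bv w 2 ∧ bv (Nat.land w 36) 5 = bv w 5 ∧ w &&& 3 < 4 ∧
        (bv w 2 = 0 ∨ bv w 2 = 1) ∧ (bv w 5 = 0 ∨ bv w 5 = 1)) w hw
    obtain ⟨b2, b5, hl, c2, c5⟩ := hbv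
    rw [b2, b5]
    conv_lhs => rw [hd]
    have h0 : act 0 (enc y) = 0 := by simp [act, bv]
    have l4 : Nat.mul (bv w 2) 4 < 64 := by rcases c2 with e | e <;> rw [e] <;> decide
    have l32 : Nat.mul (bv w 5) 32 < 64 := by rcases c5 with e | e <;> rw [e] <;> decide
    rw [act_xor _ _ (Nat.xor_lt_two_pow (n := 6) (by omega) l4) l32, act_xor _ _ (by omega) l4]
    show ((_ ^^^ _) ^^^ _) &&& 36 = (_ * (_ &&& 36)) ^^^ (_ * (_ &&& 36))
    rw [Nat.and_xor_distrib_right, Nat.and_xor_distrib_right,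
      (by decide : ∀ v < 4, v &&& 36 = 0) _ (act_low hy _ hl), Nat.zero_xor]
    rcases c2 with e | e <;> rcases c5 with e' | e' <;> simp [e, e', h0]
  show (_, _) = (_, _)
  rw [← act_act 4 (by norm_num), ← act_act 32 (by norm_num), step _ (act_lt 4 (by norm_num) x) f41 f42,
    step _ (act_lt 32 (by norm_num) x) f321 f322]
  rfl

theorem pu_one : pu (enc (1 : Sp)) = (4, 32) := by rw [enc_one]; decide +kernel

/-- A Sylow two subgroup. -/
def SS : Subgroup Sp :=
  ofPred (fun x => x ∈ XT ∧ inS (enc x) = true)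
    ⟨one_mem _, by rw [enc_one]; decide +kernel⟩
    fun x y ⟨hx, hx'⟩ ⟨hy, hy'⟩ => ⟨mul_mem hx hy, by
      simp only [inS, Bool.and_eq_true, beq_iff_eq, decide_eq_true_eq] at hx' hy' ⊢
      refine ⟨by rw [← act_act 1 (by norm_num), hx'.1, hy'.1], ?_⟩
      rw [← act_act 4 (by norm_num)]
      have hd := (by decide : ∀ w < 8, w = (w &&& 3) ^^^ (if w < 4 then 0 else 4)) _ hx'.2
      rw [hd, act_xor _ _ (lt_of_le_of_lt Nat.and_le_right (by norm_num)) (by split <;> norm_num)]
      refine Nat.xor_lt_two_pow (n := 3) ?_ ?_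
      · exact lt_trans (act_low hy _ (lt_of_le_of_lt Nat.and_le_right (by norm_num))) (by norm_num)
      · split
        · simp [act, bv]
        · exact hy'.2⟩

theorem mem_SS {x : Sp} : x ∈ SS ↔ x ∈ XT ∧ inS (enc x) = true := Iff.rfl

theorem card_SS : Nat.card SS = 512 := by
  rw [show Nat.card SS = _ from Nat.card_congr (Equiv.subtypeEquivRight fun x => by
      rw [mem_SS, mem_XT]), card_filter _ fun a h _ => (xh_ok h).1]
  exact xh_counts.2.1

theorem isPGroup_SS : IsPGroup 2 SS := IsPGroup.of_card (n := 9) (by rw [card_SS]; norm_num)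

theorem index_SS : ¬ 2 ∣ SS.index := by
  have h := SS.card_mul_index
  rw [card_SS, card_Sp] at h
  omega

/-- Every involution is conjugate to one of four representatives. -/
theorem classify {u : Sp} (hu : u * u = 1) (h1 : u ≠ 1) :
    ∃ h : Sp, h * u * h⁻¹ ∈ ({xR, xT, xC, xB} : Set Sp) := by
  haveI : Fact (Nat.Prime 2) := ⟨Nat.prime_two⟩
  obtain ⟨Q, hQ⟩ := (IsPGroup.of_card (n := 1) (by
    rw [Nat.card_zpowers, orderOf_eq_prime (by rw [pow_two, hu]) h1, pow_one] :
      Nat.card (Subgroup.zpowers u) = 2 ^ 1)).exists_le_sylow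
  obtain ⟨g, hg⟩ := MulAction.exists_smul_eq Sp Q (isPGroup_SS.toSylow index_SS)
  have hm : g * u * g⁻¹ ∈ (Q : Subgroup Sp).map (MulAut.conj g).toMonoidHom :=
    ⟨u, hQ (Subgroup.mem_zpowers u), rfl⟩
  have hS : g * u * g⁻¹ ∈ SS := by
    have e : ((g • Q : Sylow 2 Sp) : Subgroup Sp) = SS := by rw [hg]; rfl
    rw [← e, Sylow.coe_subgroup_smul]
    exact hm
  set v := g * u * g⁻¹ with hv
  obtain ⟨hvT, hvS⟩ := mem_SS.1 hS
  have hi : involB (enc v) = true := by
    simp only [involB, Bool.and_eq_true, Nat.beq_eq, Bool.not_eq_true', ← Bool.not_eq_true]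
    rw [← enc_mul, ← enc_one]
    refine ⟨congrArg enc ?_, fun e => h1 ?_⟩
    · rw [hv]
      calc g * u * g⁻¹ * (g * u * g⁻¹) = g * (u * u) * g⁻¹ := by group
        _ = 1 := by rw [hu]; group
    · exact conj_eq_one_iff.1 (enc_inj e)
  obtain ⟨a, ha, he⟩ := xh_classify (mem_XT.1 hvT) hvS hi
  have hok := List.all_eq_true.1 hTab_valid a ha
  have hr : ∃ r ∈ ({xR, xT, xC, xB} : Set Sp), enc r = repOf (enc v) := by
    unfold repOf
    split
    · exact ⟨xR, by simp, enc_mk _ _⟩
    · split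
      · exact ⟨xT, by simp, enc_mk _ _⟩
      · split
        · exact ⟨xC, by simp, enc_mk _ _⟩
        · exact ⟨xB, by simp, enc_mk _ _⟩
  obtain ⟨r, hrm, hre⟩ := hr
  refine ⟨mk a hok * g, ?_⟩
  have h2 : mk a hok * v = r * mk a hok := enc_inj (by rw [enc_mul (mk a hok) v, enc_mul r, enc_mk, hre, he])
  rwa [show mk a hok * g * u * (mk a hok * g)⁻¹ = mk a hok * v * (mk a hok)⁻¹ by rw [hv]; group, h2,
    mul_inv_cancel_right]

theorem rep_three' : ∀ r ∈ ({xR, xT, xC, xB} : Set Sp), ∃ y : Sp, orderOf y = 3 ∧ y * r = r * y := by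
  obtain ⟨h1, h2, h3, h4⟩ := rep_three
  rintro r (rfl | rfl | rfl | rfl)
  · exact ⟨xU, order_xU, (commute_of_commB (by rw [xR, xU, enc_mk, enc_mk]; exact h1)).symm⟩
  · exact ⟨xL, order_xL, (commute_of_commB (by rw [xT, xL, enc_mk, enc_mk]; exact h2)).symm⟩
  · exact ⟨xU, order_xU, (commute_of_commB (by rw [xC, xU, enc_mk, enc_mk]; exact h3)).symm⟩
  · exact ⟨xPerm, order_xPerm, (commute_of_commB (by rw [xB, xPerm, enc_mk, enc_mk]; exact h4)).symm⟩

/-- Every involution commutes with an element of order three. -/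
theorem exists_three {u : Sp} (hu : u * u = 1) : ∃ y : Sp, orderOf y = 3 ∧ y * u = u * y := by
  by_cases h1 : u = 1
  · exact ⟨xL, order_xL, by rw [h1, mul_one, one_mul]⟩
  obtain ⟨h, hh⟩ := classify hu h1
  obtain ⟨y, hy, hc⟩ := rep_three' _ hh
  refine ⟨h⁻¹ * y * h, ?_, ?_⟩
  · have := MulEquiv.orderOf_eq (MulAut.conj h⁻¹) y
    simp only [MulAut.conj_apply, inv_inv] at this
    exact this.trans hy
  · calc h⁻¹ * y * h * u = h⁻¹ * (y * (h * u * h⁻¹)) * h := by group
      _ = h⁻¹ * (h * u * h⁻¹ * y) * h := by rw [hc]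
      _ = _ := by group

/-- An involution of invariant `64` is a transvection. -/
theorem eq_tvc {x : Sp} (hx : x * x = 1) (hc : cnt (enc x) = 64) : ∃ v < 64, enc x = tvc v := by
  by_cases h1 : x = 1
  · exfalso
    rw [h1, enc_one] at hc
    revert hc
    decide +kernel
  obtain ⟨h, hh⟩ := classify hx h1
  have hR : h * x * h⁻¹ = xR := by
    have hcc := cnt_conj h x
    rw [hc] at hcc
    obtain ⟨⟨-, b, c, d⟩, -⟩ : ((cnt cR = 64) ∧ cnt cT = 80 ∧ cnt cC = 48 ∧ cnt cB = 40) ∧ True := by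
      have := rep_facts.1
      simp only [Prod.mk.injEq] at this
      tauto
    rcases hh with e | e | e | e
    · exact e
    all_goals
      rw [e] at hcc
      simp only [xT, xC, xB, enc_mk] at hcc
      omega
  have hx' : x = h⁻¹ * xR * h := by rw [← hR]; group
  refine ⟨act 1 (enc h), act_lt 1 (by norm_num) h, ?_⟩
  have hrow : ∀ i < 6, row (enc x) i = tvr (2 ^ i) (act 1 (enc h)) := by
    intro i hi
    have hp : 2 ^ i < 64 := by interval_cases i <;> norm_num
    rw [← act_two_pow i hi, hx', ← act_act _ hp, ← act_act _ hp]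
    have hw := act_lt _ hp h⁻¹
    have hs : ∀ w < 64, act w cR = tvr w 1 := by decide +kernel
    rw [xR, enc_mk, hs _ hw]
    have hid : act (act (2 ^ i) (enc h⁻¹)) (enc h) = 2 ^ i := by
      rw [act_act _ hp, inv_mul_cancel, enc_one]
      exact (by decide +kernel : ∀ w < 64, act w cid = w) _ hp
    have hf : form (2 ^ i) (act 1 (enc h)) = form (act (2 ^ i) (enc h⁻¹)) 1 := by
      have := act_form (act (2 ^ i) (enc h⁻¹)) 1 hw (by norm_num) h
      rwa [hid] at this
    simp only [tvr, hf]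
    split
    · show act (_ ^^^ 1) _ = _
      rw [act_xor _ _ hw (by norm_num), hid]
      rfl
    · exact hid
  conv_lhs => rw [← pack_row (enc_lt x)]
  show pack _ _ _ _ _ _ = pack _ _ _ _ _ _
  rw [hrow 0 (by omega), hrow 1 (by omega), hrow 2 (by omega), hrow 3 (by omega), hrow 4 (by omega),
    hrow 5 (by omega)]
  rfl

/-! ### A Sylow three subgroup -/

/-- The Sylow three subgroup. -/
def PP : Subgroup Sp :=
  ofPred (fun x => enc x ∈ p3)
    (by rw [enc_one]; exact List.contains_iff_mem.1 p3_facts.2.2.2.2.2.2.2.1)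
    fun x y hx hy => by
      rw [enc_mul]
      exact List.contains_iff_mem.1 (List.all_eq_true.1 (List.all_eq_true.1 p3_facts.2.2.2.1 _ hx) _ hy)

theorem mem_PP {x : Sp} : x ∈ PP ↔ enc x ∈ p3 := Iff.rfl

theorem card_PP : Nat.card PP = 81 := by
  let f : PP → {a // a ∈ p3.toFinset} := fun x => ⟨enc x.1, List.mem_toFinset.2 x.2⟩
  have hf : Function.Bijective f := ⟨fun x y e => Subtype.ext (enc_inj (congrArg Subtype.val e)), fun a => by
    have h := List.mem_toFinset.1 a.2
    have hok := List.all_eq_true.1 p3_facts.2.1 _ h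
    exact ⟨⟨mk a.1 hok, by rw [mem_PP, enc_mk]; exact h⟩, Subtype.ext (enc_mk a.1 hok)⟩⟩
  rw [Nat.card_congr (Equiv.ofBijective f hf), Nat.card_eq_fintype_card, Fintype.card_coe,
    List.toFinset_card_of_nodup p3_facts.2.2.1, p3_facts.1]

theorem index_PP : ¬ 3 ∣ PP.index := by
  have h := PP.card_mul_index
  rw [card_PP, card_Sp] at h
  omega

theorem comm_xZ {x : Sp} (hx : x ∈ PP) : x * xZ = xZ * x :=
  commute_of_commB (by rw [xZ, enc_mk]; exact List.all_eq_true.1 p3_facts.2.2.2.2.2.1 _ hx)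

/-- The centre of the Sylow three subgroup. -/
theorem center_PP {x : Sp} (hx : x ∈ PP) (h1 : x ≠ 1) (hc : ∀ y ∈ PP, x * y = y * x) :
    ∃ k : Sp, k * xZ * k⁻¹ = x := by
  have h := List.all_eq_true.1 p3_facts.2.2.2.2.1 _ hx
  have hall : p3.all (commB (enc x)) = true := List.all_eq_true.2 fun a ha => by
    have hok := List.all_eq_true.1 p3_facts.2.1 a ha
    have := commB_of_commute (hc (mk a hok) (by rw [mem_PP, enc_mk]; exact ha))
    rwa [enc_mk] at this
  simp only [hall, Bool.not_true, Bool.false_or, List.contains_iff_mem, List.mem_cons, List.not_mem_nil,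
    or_false] at h
  rcases h with h | h | h
  · exact absurd (enc_inj (h.trans enc_one.symm)) h1
  · exact ⟨1, by rw [one_mul, inv_one, mul_one]; exact enc_inj (by rw [h, xZ, enc_mk])⟩
  · refine ⟨xInv, ?_⟩
    have e : xInv * xZ = x * xInv := enc_inj (by
      rw [enc_mul, enc_mul, h, xInv, xZ, enc_mk, enc_mk]; exact p3_facts.2.2.2.2.2.2.2.2)
    rw [e, mul_inv_cancel_right]

end Cfsg.Agent.Lie.PSpFourThreeFull.SpSix
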