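import Cfsg.Agent.Lib.Lie.PSpFourThreeFull.SpSix.Local

/-!
The normaliser of the radical in the centraliser of `t` lies in the copy of `Sp₆(2)`; a Sylow two subgroup of
the centraliser lies there as well.
-/

set_option autoImplicit false
set_option maxHeartbeats 1000000

universe u

namespace Cfsg.Agent.Lie.PSpFourThreeFull.SpSix

/-- A group of order prime to three normalised by the three-part of a product of two dihedral groups of order
six inside that product is trivial. -/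
theorem sig_generic {K : Type*} [Group K] [Finite K] (E N : Subgroup K) {a b s s' : K} (ha : a ∈ E) (hb : b ∈ E)
    (hE : ∀ x ∈ E, x ^ 3 = 1) (hab : ∀ x ∈ E, ∀ y ∈ E, x * y = y * x) (ha1 : a ≠ 1) (hb1 : b ≠ 1)
    (hsa : s * a = a * s) (hsb : s * b * s⁻¹ = b⁻¹) (hsa' : s' * a * s'⁻¹ = a⁻¹) (hsb' : s' * b = b * s')
    (hW : ∀ n ∈ N, ∃ e ∈ E, n = e ∨ n = e * s ∨ n = e * s' ∨ n = e * (s * s'))
    (hN : (Nat.card N).Coprime 3) (hnorm : E ≤ Subgroup.normalizer (N : Set K)) : N = ⊥ := by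
  have htriv : ∀ x ∈ N, x ∈ E → x = 1 := fun x hxN hxE => by
    have h2 := congrArg Subtype.val (pow_card_eq_one' (x := (⟨x, hxN⟩ : N)))
    simp only [SubgroupClass.coe_pow, Subgroup.coe_one] at h2
    have := Nat.dvd_gcd (orderOf_dvd_of_pow_eq_one h2) (orderOf_dvd_of_pow_eq_one (hE x hxE))
    rw [hN, Nat.dvd_one, orderOf_eq_one_iff] at this
    exact this
  have hne : ∀ x ∈ E, x ≠ 1 → x⁻¹ ≠ x := fun x hx h1 h => h1 (by
    have h3 := hE x hx
    rw [pow_three, ← inv_inv (x * (x * x))] at h3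
    calc x = x * (x⁻¹ * x) := by group
      _ = x * (x * x) := by rw [h]
      _ = 1 := by simpa using h3)
  have hmove : ∀ n ∈ N, ∀ x ∈ E, n * x * n⁻¹ ∈ E → n * x = x * n := fun n hn x hx hc => by
    have h1 : x * n * x⁻¹ * n⁻¹ ∈ N := N.mul_mem ((Subgroup.mem_normalizer_iff.1 (hnorm hx) n).1 hn) (N.inv_mem hn)
    have h2 : x * n * x⁻¹ * n⁻¹ ∈ E := by
      rw [show x * n * x⁻¹ * n⁻¹ = x * (n * x * n⁻¹)⁻¹ by group]
      exact E.mul_mem hx (E.inv_mem hc)
    have h3 := htriv _ h1 h2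
    calc n * x = (x * n * x⁻¹ * n⁻¹)⁻¹ * (x * n) := by group
      _ = x * n := by rw [h3, inv_one, one_mul]
  refine (Subgroup.eq_bot_iff_forall _).2 fun n hn => ?_
  obtain ⟨e, he, h⟩ := hW n hn
  have cA : ∀ w, w * a * w⁻¹ = a ∨ w * a * w⁻¹ = a⁻¹ → (e * w) * a * (e * w)⁻¹ = w * a * w⁻¹ := fun w hw => by
    have hmem : w * a * w⁻¹ ∈ E := by rcases hw with hw | hw <;> rw [hw] <;> first | exact ha | exact E.inv_mem ha
    calc (e * w) * a * (e * w)⁻¹ = e * (w * a * w⁻¹) * e⁻¹ := by group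
      _ = _ := by rw [hab e he _ hmem, mul_inv_cancel_right]
  have cB : ∀ w, w * b * w⁻¹ = b ∨ w * b * w⁻¹ = b⁻¹ → (e * w) * b * (e * w)⁻¹ = w * b * w⁻¹ := fun w hw => by
    have hmem : w * b * w⁻¹ ∈ E := by rcases hw with hw | hw <;> rw [hw] <;> first | exact hb | exact E.inv_mem hb
    calc (e * w) * b * (e * w)⁻¹ = e * (w * b * w⁻¹) * e⁻¹ := by group
      _ = _ := by rw [hab e he _ hmem, mul_inv_cancel_right]
  rcases h with rfl | rfl | rfl | rfl
  · exact htriv _ hn he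
  · exfalso
    have hc := cB s (Or.inr hsb)
    rw [hsb] at hc
    have := hmove _ hn b hb (by rw [hc]; exact E.inv_mem hb)
    rw [this, mul_inv_cancel_right] at hc
    exact hne b hb hb1 hc.symm
  · exfalso
    have hc := cA s' (Or.inr hsa')
    rw [hsa'] at hc
    have := hmove _ hn a ha (by rw [hc]; exact E.inv_mem ha)
    rw [this, mul_inv_cancel_right] at hc
    exact hne a ha ha1 hc.symm
  · exfalso
    have e1 : s * s' * a * (s * s')⁻¹ = a⁻¹ := by
      calc s * s' * a * (s * s')⁻¹ = s * (s' * a * s'⁻¹) * s⁻¹ := by group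
        _ = s * a⁻¹ * s⁻¹ := by rw [hsa']
        _ = _ := by rw [(Commute.inv_right (show Commute s a from hsa)).eq, mul_inv_cancel_right]
    have hc := cA (s * s') (Or.inr e1)
    rw [e1] at hc
    have := hmove _ hn a ha (by rw [hc]; exact E.inv_mem ha)
    rw [this, mul_inv_cancel_right] at hc
    exact hne a ha ha1 hc.symm

namespace Emb

variable {G : Type u} [Group G] (d : Emb G)

/-- The normaliser modulo the radical. -/
abbrev QN : Type u := d.NG ⧸ d.KG.subgroupOf d.NG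

theorem mem_NG_of [Finite G] {x : Sp} (hx : x ∈ XT) : d.φ x ∈ d.NG := ⟨d.map_mem_XG hx, d.XT_normalizes hx⟩

/-- The map to the quotient. -/
def toQ [Finite G] : XT →* d.QN :=
  (QuotientGroup.mk' _).comp
    ((d.φ.comp XT.subtype).codRestrict d.NG fun x => d.mem_NG_of x.2)

theorem toQ_apply [Finite G] (x : XT) : d.toQ x = QuotientGroup.mk ⟨d.φ x.1, d.mem_NG_of x.2⟩ := rfl

theorem toQ_eq_one [Finite G] {x : XT} : d.toQ x = 1 ↔ x.1 ∈ KK := by
  rw [toQ_apply, QuotientGroup.eq_one_iff, Subgroup.mem_subgroupOf]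
  exact ⟨fun ⟨k, hk, e⟩ => d.inj e ▸ hk, fun h => ⟨_, h, rfl⟩⟩

theorem of_toQ [Finite G] {g : d.NG} {x : XT} (h : (QuotientGroup.mk g : d.QN) = d.toQ x) :
    (g : G) ∈ d.φ.range := by
  have h1 := QuotientGroup.eq.1 h
  rw [Subgroup.mem_subgroupOf] at h1
  obtain ⟨k, -, hk⟩ := h1
  refine ⟨x.1 * k⁻¹, ?_⟩
  rw [map_mul, map_inv, hk]
  show d.φ x.1 * ((g : G)⁻¹ * d.φ x.1)⁻¹ = (g : G)
  group

def qL : XT := ⟨xL, xL_mem⟩
def qU : XT := ⟨xU, xU_mem⟩
def qSL : XT := ⟨xSL, xSL_mem⟩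
def qSU : XT := ⟨xSU, xSU_mem⟩

/-- The two factors of the quotient. -/
def qE [Finite G] : Subgroup d.QN where
  carrier := {x | ∃ i j : ℕ, x = d.toQ (qL ^ i * qU ^ j)}
  one_mem' := ⟨0, 0, by simp⟩
  mul_mem' := by
    rintro _ _ ⟨i, j, rfl⟩ ⟨i', j', rfl⟩
    refine ⟨i + i', j + j', ?_⟩
    have hc : Commute qL qU := Subtype.ext levi_rel.2.2.1
    rw [← map_mul, pow_add, pow_add, ((hc.symm.pow_pow j i').mul_mul_mul_comm _ _)]
  inv_mem' := by
    rintro _ ⟨i, j, rfl⟩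
    refine ⟨2 * i, 2 * j, inv_eq_of_mul_eq_one_right ?_⟩
    have hc : Commute qL qU := Subtype.ext levi_rel.2.2.1
    rw [← map_mul, ((hc.symm.pow_pow j (2 * i)).mul_mul_mul_comm _ _), ← pow_add, ← pow_add,
      show i + 2 * i = 3 * i by ring, show j + 2 * j = 3 * j by ring, pow_mul, pow_mul,
      show qL ^ 3 = 1 from Subtype.ext levi_rel.1, show qU ^ 3 = 1 from Subtype.ext levi_rel.2.1]
    simp

theorem qE_comm [Finite G] : ∀ x ∈ d.qE, ∀ y ∈ d.qE, x * y = y * x := by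
  rintro _ ⟨i, j, rfl⟩ _ ⟨i', j', rfl⟩
  have hc : Commute qL qU := Subtype.ext levi_rel.2.2.1
  rw [← map_mul, ← map_mul]
  refine congrArg d.toQ ?_
  exact (((Commute.refl qL).pow_pow i i').mul_right (hc.pow_pow i j')).mul_left
    ((hc.symm.pow_pow j i').mul_right ((Commute.refl qU).pow_pow j j'))

theorem qE_cube [Finite G] : ∀ x ∈ d.qE, x ^ 3 = 1 := by
  rintro _ ⟨i, j, rfl⟩
  have hc : Commute qL qU := Subtype.ext levi_rel.2.2.1
  rw [← map_pow, (hc.pow_pow i j).mul_pow, ← pow_mul, ← pow_mul, mul_comm i, mul_comm j, pow_mul, pow_mul,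
    show qL ^ 3 = 1 from Subtype.ext levi_rel.1, show qU ^ 3 = 1 from Subtype.ext levi_rel.2.1]
  simp

theorem qW_cases [Finite G] : ∀ w ∈ d.toQ.range, ∃ e ∈ d.qE, w = e ∨ w = e * d.toQ qSU ∨ w = e * d.toQ qSL ∨
    w = e * (d.toQ qSU * d.toQ qSL) := by
  rintro _ ⟨x, rfl⟩
  obtain ⟨k, hk, i, j, h⟩ := levi_cases x.2
  have hkT : k ∈ XT := (mem_KK.1 hk).1
  have h0 : ∀ w : XT, x.1 = k * w.1 → d.toQ x = d.toQ w := fun w e => by
    rw [show x = ⟨k, hkT⟩ * w from Subtype.ext e, map_mul, show d.toQ ⟨k, hkT⟩ = 1 from d.toQ_eq_one.2 hk, one_mul]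
  refine ⟨d.toQ (qL ^ i * qU ^ j), ⟨i, j, rfl⟩, ?_⟩
  rcases h with h | h | h | h
  · exact Or.inl (h0 _ h)
  · exact Or.inr (Or.inl (by rw [← map_mul]; exact h0 _ h))
  · exact Or.inr (Or.inr (Or.inl (by rw [← map_mul]; exact h0 _ h)))
  · exact Or.inr (Or.inr (Or.inr (by rw [← map_mul, ← map_mul]; exact h0 _ h)))

theorem qkey [Finite G] : ∀ g x : d.QN, x ∈ d.qE → x ≠ 1 → g * x * g⁻¹ ∈ d.qE → g ∈ d.toQ.range := by
  intro g x
  rintro ⟨i, j, rfl⟩ hx1 ⟨i', j', e⟩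
  obtain ⟨g, rfl⟩ := QuotientGroup.mk_surjective g
  set w := qL ^ i * qU ^ j with hw
  have hc : Commute qL qU := Subtype.ext levi_rel.2.2.1
  haveI : Fact (Nat.Prime 3) := ⟨Nat.prime_three⟩
  have hw3 : orderOf w.1 = 3 := by
    refine orderOf_eq_prime ?_ fun e1 => hx1 (by rw [show w = 1 from Subtype.ext e1, map_one])
    rw [← SubgroupClass.coe_pow, hw, (hc.pow_pow i j).mul_pow, ← pow_mul, ← pow_mul, mul_comm i, mul_comm j,
      pow_mul, pow_mul, show qL ^ 3 = 1 from Subtype.ext levi_rel.1,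
      show qU ^ 3 = 1 from Subtype.ext levi_rel.2.1]
    simp
  have hr : (g : G) * d.φ w.1 * (g : G)⁻¹ ∈ d.φ.range :=
    d.of_toQ (g := g * ⟨d.φ w.1, d.mem_NG_of w.2⟩ * g⁻¹) (by rw [← e, toQ_apply]; rfl)
  obtain ⟨y, hy, hyg⟩ := d.of_mem_XG g.2.1 (d.range_of_three_conj hw3 hr)
  exact ⟨⟨y, hy⟩, congrArg QuotientGroup.mk (Subtype.ext hyg)⟩

theorem qsig [Finite G] : ∀ N : Subgroup d.QN, (Nat.card N).Coprime 3 →
    d.qE ≤ Subgroup.normalizer (N : Set d.QN) → N = ⊥ := by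
  intro N hN hnorm
  haveI : IsMulCommutative d.qE := ⟨⟨fun a b => Subtype.ext (d.qE_comm _ a.2 _ b.2)⟩⟩
  have hA : ¬ IsCyclic d.qE := fun h => by
    obtain ⟨g, hg⟩ := h.exists_generator
    obtain ⟨m, hm⟩ := Subgroup.mem_zpowers_iff.1 (hg ⟨d.toQ qL, 1, 0, by simp⟩)
    obtain ⟨n, hn⟩ := Subgroup.mem_zpowers_iff.1 (hg ⟨d.toQ qU, 0, 1, by simp⟩)
    obtain ⟨i, j, hij⟩ := g.2
    have h1 : ∀ a b : ℕ, d.toQ (qL ^ a * qU ^ b) = 1 → 3 ∣ a ∧ 3 ∣ b := fun a b h => levi_free (d.toQ_eq_one.1 h)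
    have hpow : ∀ z : ℤ, ∃ c : ℕ, ((g ^ z : d.qE) : d.QN) = d.toQ (qL ^ (c * i) * qU ^ (c * j)) := fun z => by
      refine ⟨(z % 3).toNat, ?_⟩
      have hg3 : g ^ 3 = 1 := Subtype.ext (d.qE_cube _ g.2)
      have : g ^ z = g ^ (z % 3).toNat := by
        rw [← zpow_natCast g, Int.toNat_of_nonneg (Int.emod_nonneg _ (by norm_num)), zpow_eq_zpow_emod' z hg3]
        norm_num
      have hc : Commute qL qU := Subtype.ext levi_rel.2.2.1
      rw [this, SubgroupClass.coe_pow, hij, ← map_pow, (hc.pow_pow i j).mul_pow, ← pow_mul, ← pow_mul,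
        mul_comm i, mul_comm j]
    obtain ⟨c, hc⟩ := hpow m
    obtain ⟨c', hc'⟩ := hpow n
    rw [hm] at hc
    rw [hn] at hc'
    have hcc : Commute qL qU := Subtype.ext levi_rel.2.2.1
    have e1 := h1 (c * i + 2) (c * j) (by
      rw [pow_add, mul_assoc, (hcc.pow_pow 2 (c * j)).eq, ← mul_assoc, map_mul, ← hc, ← map_mul, ← pow_succ',
        show qL ^ 3 = 1 from Subtype.ext levi_rel.1, map_one])
    have e2 := h1 (c' * i) (c' * j + 2) (by
      rw [pow_add, ← mul_assoc, map_mul, ← hc', ← map_mul, ← pow_succ',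
        show qU ^ 3 = 1 from Subtype.ext levi_rel.2.1, map_one])
    obtain ⟨a1, a2⟩ := e1
    obtain ⟨b1, b2⟩ := e2
    have hc0 : ¬ 3 ∣ c * i := fun h => by omega
    have hc0' : ¬ 3 ∣ c' * j := fun h => by omega
    have h3 : Nat.Prime 3 := Nat.prime_three
    rcases h3.dvd_mul.1 a2 with h | h
    · exact hc0 (h.mul_right _)
    · exact hc0' (h.mul_left _)
  have hcop : (Nat.card d.qE).Coprime (Nat.card N) := by
    haveI : Fact (Nat.Prime 3) := ⟨Nat.prime_three⟩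
    obtain ⟨n, hn⟩ := IsPGroup.iff_card.1 (show IsPGroup 3 d.qE from fun g =>
      ⟨1, Subtype.ext (by rw [SubgroupClass.coe_pow, pow_one]; exact d.qE_cube _ g.2)⟩)
    rw [hn]
    exact Nat.Coprime.pow_left _ hN.symm
  have hle : N ≤ d.toQ.range := by
    conv_lhs => rw [← Cfsg.Agent.S0058.result d.qE N hA hnorm hcop]
    refine iSup₂_le fun a ha n hn => ?_
    have hca := Subgroup.mem_centralizer_singleton_iff.1 (Subgroup.mem_inf.1 hn).2
    exact d.qkey n a ha.1 ha.2 (by rw [hca, mul_inv_cancel_right]; exact ha.1)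
  refine sig_generic d.qE N (a := d.toQ qL) (b := d.toQ qU) ⟨1, 0, by simp⟩ ⟨0, 1, by simp⟩ d.qE_cube d.qE_comm
    (fun h => by have := levi_free (i := 1) (j := 0) (by rw [pow_one, pow_zero, mul_one]; exact d.toQ_eq_one.1 h); omega)
    (fun h => by have := levi_free (i := 0) (j := 1) (by rw [pow_one, pow_zero, one_mul]; exact d.toQ_eq_one.1 h); omega)
    ?_ ?_ ?_ ?_ (fun n hn => d.qW_cases n (hle hn)) hN hnorm
  · rw [← map_mul, ← map_mul]; exact congrArg d.toQ (Subtype.ext levi_rel.2.2.2.2.2.2.1)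
  · rw [← map_inv, ← map_mul, ← map_mul, ← map_inv]
    refine congrArg d.toQ (mul_inv_eq_iff_eq_mul.2 ?_)
    rw [inv_eq_of_mul_eq_one_right (b := qU * qU) (Subtype.ext (by
      show xU * (xU * xU) = 1
      rw [← levi_rel.2.1, pow_three]))]
    exact Subtype.ext levi_rel.2.2.2.2.2.2.2.1
  · rw [← map_inv, ← map_mul, ← map_mul, ← map_inv]
    refine congrArg d.toQ (mul_inv_eq_iff_eq_mul.2 ?_)
    rw [inv_eq_of_mul_eq_one_right (b := qL * qL) (Subtype.ext (by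
      show xL * (xL * xL) = 1
      rw [← levi_rel.1, pow_three]))]
    exact Subtype.ext levi_rel.2.2.2.2.2.2.2.2.1
  · rw [← map_mul, ← map_mul]; exact congrArg d.toQ (Subtype.ext levi_rel.2.2.2.2.2.2.2.2.2)

/-- The data of the quotient. -/
def pairData [Finite G] : PSpFourThreeAmalgam.PairData d.QN where
  W := d.toQ.range
  E := d.qE
  a := d.toQ qL
  b := d.toQ qU
  s := d.toQ qSU
  s' := d.toQ qSL
  ha3 := by rw [← map_pow, show qL ^ 3 = 1 from Subtype.ext levi_rel.1, map_one]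
  hb3 := by rw [← map_pow, show qU ^ 3 = 1 from Subtype.ext levi_rel.2.1, map_one]
  hab := by rw [← map_mul, ← map_mul]; exact congrArg d.toQ (Subtype.ext levi_rel.2.2.1)
  hs := by rw [← map_mul, show qSU * qSU = 1 from Subtype.ext levi_rel.2.2.2.1, map_one]
  hs' := by rw [← map_mul, show qSL * qSL = 1 from Subtype.ext levi_rel.2.2.2.2.1, map_one]
  hss := by rw [← map_mul, ← map_mul]; exact congrArg d.toQ (Subtype.ext levi_rel.2.2.2.2.2.1)
  hsa := by rw [← map_mul, ← map_mul]; exact congrArg d.toQ (Subtype.ext levi_rel.2.2.2.2.2.2.1)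
  hsb := by
    rw [← map_inv, ← map_mul, ← map_mul, ← map_inv]
    refine congrArg d.toQ (mul_inv_eq_iff_eq_mul.2 ?_)
    rw [inv_eq_of_mul_eq_one_right (b := qU * qU) (Subtype.ext (by
      show xU * (xU * xU) = 1
      rw [← levi_rel.2.1, pow_three]))]
    exact Subtype.ext levi_rel.2.2.2.2.2.2.2.1
  hsa' := by
    rw [← map_inv, ← map_mul, ← map_mul, ← map_inv]
    refine congrArg d.toQ (mul_inv_eq_iff_eq_mul.2 ?_)
    rw [inv_eq_of_mul_eq_one_right (b := qL * qL) (Subtype.ext (by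
      show xL * (xL * xL) = 1
      rw [← levi_rel.1, pow_three]))]
    exact Subtype.ext levi_rel.2.2.2.2.2.2.2.2.1
  hsb' := by rw [← map_mul, ← map_mul]; exact congrArg d.toQ (Subtype.ext levi_rel.2.2.2.2.2.2.2.2.2)
  hE x := by
    refine ⟨fun ⟨i, j, e⟩ => ⟨i, j, ?_⟩, fun ⟨i, j, e⟩ => ⟨i, j, ?_⟩⟩
    · rw [e, map_mul, map_pow, map_pow]
    · rw [e, map_mul, map_pow, map_pow]
  hind i j h := by
    rw [← map_pow, ← map_pow, ← map_mul, toQ_eq_one] at h
    exact levi_free h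
  hEc := by
    let f : Fin 3 × Fin 3 → d.qE := fun p => ⟨d.toQ (qL ^ p.1.val * qU ^ p.2.val), _, _, rfl⟩
    have hc : Commute qL qU := Subtype.ext levi_rel.2.2.1
    have h3 : ∀ i j : ℕ, qL ^ i * qU ^ j = qL ^ (i % 3) * qU ^ (j % 3) := fun i j => by
      rw [← pow_eq_pow_mod i (Subtype.ext levi_rel.1), ← pow_eq_pow_mod j (Subtype.ext levi_rel.2.1)]
    have hf : Function.Bijective f := by
      refine ⟨fun p q e => ?_, fun ⟨x, i, j, e⟩ => ⟨(⟨i % 3, Nat.mod_lt _ (by norm_num)⟩,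
        ⟨j % 3, Nat.mod_lt _ (by norm_num)⟩), Subtype.ext ((congrArg d.toQ (h3 i j).symm).trans e.symm)⟩⟩
      have e' : d.toQ (qL ^ p.1.val * qU ^ p.2.val) = d.toQ (qL ^ q.1.val * qU ^ q.2.val) :=
        congrArg Subtype.val e
      have h1 : d.toQ (qL ^ (p.1.val + 2 * q.1.val) * qU ^ (p.2.val + 2 * q.2.val)) = 1 := by
        rw [pow_add, pow_add, ((hc.pow_pow _ _).mul_mul_mul_comm _ _), map_mul, e', ← map_mul,
          ← ((hc.pow_pow _ _).mul_mul_mul_comm _ _), ← pow_add, ← pow_add,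
          show q.1.val + 2 * q.1.val = 3 * q.1.val by ring, show q.2.val + 2 * q.2.val = 3 * q.2.val by ring,
          pow_mul, pow_mul, show qL ^ 3 = 1 from Subtype.ext levi_rel.1,
          show qU ^ 3 = 1 from Subtype.ext levi_rel.2.1]
        simp
      obtain ⟨d1, d2⟩ := levi_free (d.toQ_eq_one.1 h1)
      have := p.1.isLt; have := q.1.isLt; have := p.2.isLt; have := q.2.isLt
      ext <;> omega
    rw [← Nat.card_congr (Equiv.ofBijective f hf)]
    simp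
  hsW := ⟨_, rfl⟩
  hsW' := ⟨_, rfl⟩
  hEW := fun x ⟨i, j, e⟩ => ⟨_, e.symm⟩
  hW := d.qW_cases
  h27 h := d.not_27 (h.trans (Subgroup.card_quotient_dvd_card _))
  key := d.qkey
  sig := d.qsig

theorem radical_normalizer_le [Finite G] : d.NG ≤ d.φ.range := fun g hg => by
  have h : (QuotientGroup.mk ⟨g, hg⟩ : d.QN) ∈ d.pairData.W := by rw [d.pairData.eq_top]; exact Subgroup.mem_top _
  obtain ⟨x, hx⟩ := h
  exact d.of_toQ hx.symm

end Emb

end Cfsg.Agent.Lie.PSpFourThreeFull.SpSix
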