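import Cfsg.Agent.Lib.Lie.PSpFourThreeFull.SpSix.Radical

/-!
The centraliser of `t` in the copy of `Sp₆(2)` has index prime to six in the whole centraliser.
-/

set_option autoImplicit false
set_option maxHeartbeats 1000000

universe u

namespace Cfsg.Agent.Lie.PSpFourThreeFull.SpSix

theorem zTr_mem {z : Sp} (hz : enc z ∈ zTr) : z ∈ SS := by
  simp only [zTr, List.mem_cons, List.not_mem_nil, or_false] at hz
  refine mem_SS.2 ⟨mem_XT.2 (mem_xhList ?_), ?_⟩
  · rcases hz with h | h | h <;> rw [h] <;> decide +kernel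
  · rcases hz with h | h | h <;> rw [h] <;> decide +kernel

namespace Emb

variable {G : Type u} [Group G] (d : Emb G)

/-- The Sylow subgroup in the ambient group. -/
def SG : Subgroup G := SS.map d.φ

/-- The centraliser of `t` in the copy. -/
def HX : Subgroup G := XT.map d.φ

theorem HX_le : d.HX ≤ d.XG := by rintro _ ⟨x, hx, rfl⟩; exact d.map_mem_XG hx

theorem card_HX : Nat.card d.HX = 4608 := by rw [HX, Subgroup.card_map_of_injective d.inj, card_XT]

/-- The Sylow subgroup is a maximal two-subgroup of the centraliser of `t`. -/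
theorem two_group_eq [Finite G] {R : Subgroup G} (hR : IsPGroup 2 R) (hRX : R ≤ d.XG) (hS : d.SG ≤ R) :
    R = d.SG := by
  by_contra hne
  haveI : Fact (Nat.Prime 2) := ⟨Nat.prime_two⟩
  have hlt : d.SG.subgroupOf R < ⊤ := lt_top_iff_ne_top.2 fun h =>
    hne (le_antisymm (Subgroup.subgroupOf_eq_top.1 h) hS)
  haveI := hR.isNilpotent
  obtain ⟨n, hn, hnS⟩ := SetLike.exists_of_lt (normalizerCondition_of_isNilpotent (d.SG.subgroupOf R) hlt)
  have hnn : ∀ s ∈ d.SG, (n : G) * s * (n : G)⁻¹ ∈ d.SG := fun s hs =>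
    Subgroup.mem_subgroupOf.1 ((Subgroup.mem_normalizer_iff.1 hn ⟨s, hS hs⟩).1 (Subgroup.mem_subgroupOf.2 hs))
  have hnn' : ∀ s ∈ d.SG, (n : G)⁻¹ * s * (n : G) ∈ d.SG := fun s hs => by
    have h := (Subgroup.mem_normalizer_iff.1 (inv_mem hn) ⟨s, hS hs⟩).1 (Subgroup.mem_subgroupOf.2 hs)
    rw [Subgroup.mem_subgroupOf] at h
    simpa using h
  have hz : ∀ z : Sp, enc z ∈ zTr → ∃ w ∈ XT, (n : G)⁻¹ * d.φ z * (n : G) = d.φ w := fun z hz => by
    obtain ⟨w, hw, e⟩ := hnn' _ ⟨z, zTr_mem hz, rfl⟩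
    exact ⟨w, (mem_SS.1 hw).1, e.symm⟩
  have hnK : (n : G) ∈ Subgroup.normalizer (d.KG : Set G) := by
    rw [Subgroup.mem_normalizer_iff_map_conj_eq]
    refine Subgroup.eq_of_le_of_card_ge ?_ (by rw [Subgroup.card_map_of_injective (MulEquiv.injective _)])
    rintro _ ⟨_, ⟨k, hk, rfl⟩, rfl⟩
    obtain ⟨k', hk', e⟩ := hnn _ ⟨k, KK_le_SS hk, rfl⟩
    exact ⟨k', d.intr (hRX n.2) hz hk (mem_SS.1 hk').1 e.symm, e⟩
  obtain ⟨x, hx⟩ := d.radical_normalizer_le ⟨hRX n.2, hnK⟩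
  have hle : SS ⊔ Subgroup.zpowers x ≤ R.comap d.φ :=
    sup_le (fun s hs => hS ⟨s, hs, rfl⟩) (Subgroup.zpowers_le.2 (by rw [Subgroup.mem_comap, hx]; exact n.2))
  have hp : IsPGroup 2 (R.comap d.φ) := hR.comap_of_injective d.φ d.inj
  have he := (isPGroup_SS.toSylow index_SS).3 (hp.to_le hle) (by
    show SS ≤ _
    exact le_sup_left)
  have hxS : x ∈ SS := by
    have : x ∈ SS ⊔ Subgroup.zpowers x := Subgroup.mem_sup_right (Subgroup.mem_zpowers x)
    rw [he] at this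
    exact this
  exact hnS (Subgroup.mem_subgroupOf.2 ⟨x, hxS, hx⟩)

theorem card_SG : Nat.card d.SG = 512 := by rw [SG, Subgroup.card_map_of_injective d.inj, card_SS]

theorem not_1024 [Finite G] : ¬ 1024 ∣ Nat.card d.XG := fun h => by
  haveI : Fact (Nat.Prime 2) := ⟨Nat.prime_two⟩
  have hS : d.SG ≤ d.XG := by rintro _ ⟨x, hx, rfl⟩; exact d.map_mem_XG (mem_SS.1 hx).1
  have hp : IsPGroup 2 (d.SG.subgroupOf d.XG) := IsPGroup.of_card (n := 9) (by
    rw [Nat.card_congr (Subgroup.subgroupOfEquivOfLe hS).toEquiv, d.card_SG]; norm_num)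
  obtain ⟨R, hR⟩ := hp.exists_le_sylow
  have he := d.two_group_eq (R := (R : Subgroup d.XG).map d.XG.subtype) (R.2.map _) (Subgroup.map_subtype_le _)
    (fun s hs => ⟨⟨s, hS hs⟩, hR (Subgroup.mem_subgroupOf.2 hs), rfl⟩)
  have h2 : 2 ^ 10 ∣ Nat.card (R : Subgroup d.XG) := Sylow.pow_dvd_card_of_pow_dvd_card R (by simpa using h)
  rw [← Subgroup.card_map_of_injective d.XG.subtype_injective, he, d.card_SG] at h2
  norm_num at h2

theorem not_27' [Finite G] : ¬ 27 ∣ Nat.card d.XG := fun h => by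
  haveI : Fact (Nat.Prime 3) := ⟨Nat.prime_three⟩
  obtain ⟨R, hR⟩ := (IsPGroup.of_card (n := 1) (by
    rw [Nat.card_zpowers, Subgroup.orderOf_mk, d.orderOf_φ, order_xL, pow_one] :
      Nat.card (Subgroup.zpowers (⟨_, d.map_mem_XG xL_mem⟩ : d.XG)) = 3 ^ 1)).exists_le_sylow
  have hle := d.three_group_le (R := (R : Subgroup d.XG).map d.XG.subtype) (R.2.map _) order_xL
    ⟨_, hR (Subgroup.mem_zpowers _), rfl⟩
  have hsub : (R : Subgroup d.XG).map d.XG.subtype ≤ d.HX := fun g hg => by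
    obtain ⟨r, hr, rfl⟩ := hg
    obtain ⟨x, hx, e⟩ := d.of_mem_XG r.2 (hle ⟨r, hr, rfl⟩)
    exact ⟨x, hx, e⟩
  have h2 := Subgroup.card_dvd_of_le hsub
  rw [Subgroup.card_map_of_injective d.XG.subtype_injective, d.card_HX] at h2
  have h3 : 3 ^ 3 ∣ Nat.card (R : Subgroup d.XG) := Sylow.pow_dvd_card_of_pow_dvd_card R (by simpa using h)
  have := h3.trans h2
  omega

theorem relIndex_HX [Finite G] : ¬ 2 ∣ d.HX.relIndex d.XG ∧ ¬ 3 ∣ d.HX.relIndex d.XG := by
  have hc := Subgroup.relIndex_mul_relIndex (⊥ : Subgroup G) d.HX d.XG bot_le d.HX_le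
  rw [Subgroup.relIndex_bot_left, Subgroup.relIndex_bot_left, d.card_HX] at hc
  refine ⟨fun h => d.not_1024 ?_, fun h => d.not_27' ?_⟩
  · rw [← hc]
    exact dvd_trans (by norm_num) (mul_dvd_mul_left 4608 h)
  · rw [← hc]
    exact dvd_trans (by norm_num) (mul_dvd_mul_left 4608 h)

end Emb

end Cfsg.Agent.Lie.PSpFourThreeFull.SpSix
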