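import Cfsg.Agent.Lib.Lie.PSpFourThreeFull.SpSix.CentT
import Cfsg.Agent.Lib.Lie.PSpFourThreeFull.SpSix.Generic

/-!
A subgroup isomorphic to `Sp₆(2)` containing the centralisers of its elements of order three is the whole group.
-/

set_option autoImplicit false
set_option maxHeartbeats 1000000

universe u

namespace Cfsg.Agent.Lie.PSpFourThreeFull.SpSix

def xA : Sp := mk fourA four_facts.1
def x2 : Sp := mk (tvc 2) (ok_of_mem (by simp))
def x3 : Sp := mk (tvc 3) (ok_of_mem (by simp))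
def x7 : Sp := mk (tvc 7) (ok_of_mem (by simp))

theorem class_facts : commB (tvc 3) cC = true ∧ cnt (cm (tvc 3) cC) = 80 ∧ cnt (tvc 3) = 64 ∧
    cm (tvc 3) (tvc 3) = cid ∧ commB (tvc 7) cB = true ∧ cnt (cm (tvc 7) cB) = 80 ∧ cnt (tvc 7) = 64 ∧
    cm (tvc 7) (tvc 7) = cid ∧ cm cC cC = cid ∧ cm cB cB = cid ∧ cm fourA fourA = cid ∧ cm cT cT = cid ∧
    cm cR cR = cid ∧ cm (tvc 2) (tvc 2) = cid ∧ cnt (tvc 2) = 64 ∧ commB cT cR = true ∧
    commB (tvc 2) cR = true ∧ cnt (cm cT cR) = 48 ∧ cm cR (tvc 2) = cC ∧ cnt cid ≠ 64 ∧ cnt cid ≠ 80 ∧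
    Nat.beq fourA cT = false ∧ cnt cid ≠ 48 := by decide +kernel

theorem cnt_reps : cnt (enc xR) = 64 ∧ cnt (enc xT) = 80 ∧ cnt (enc xC) = 48 ∧ cnt (enc xB) = 40 := by
  have := rep_facts.1
  simp only [Prod.mk.injEq] at this
  rw [xR, xT, xC, xB, enc_mk, enc_mk, enc_mk, enc_mk]
  exact this

theorem invol_of_cm {x : Sp} {a : ℕ} (e : enc x = a) (h : cm a a = cid) : x * x = 1 :=
  enc_inj (by rw [enc_mul, e, h, enc_one])

theorem ne_one_of_cnt {x : Sp} (h : cnt (enc x) ≠ cnt cid) : x ≠ 1 := fun e => h (by rw [e, enc_one])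

namespace Emb

variable {G : Type u} [Group G] [Finite G] (d : Emb G)

theorem φ_invol {x : Sp} (h : x * x = 1) : d.φ x * d.φ x = 1 := by rw [← map_mul, h, map_one]

theorem φ_ne_one {x : Sp} (h : x ≠ 1) : d.φ x ≠ 1 := fun e => h (d.inj (e.trans d.φ.map_one.symm))

theorem cent_T {x : G} (h : x * d.φ xT = d.φ xT * x) : x ∈ d.φ.range := d.XG_le_range (d.mem_XG.2 h)

theorem cent_eighty {y : Sp} (hy : y * y = 1) (hc : cnt (enc y) = 80) {x : G} (hx : x * d.φ y = d.φ y * x) :
    x ∈ d.φ.range := by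
  obtain ⟨h, hh⟩ := classify hy (ne_one_of_cnt (by rw [hc]; exact class_facts.2.2.2.2.2.2.2.2.2.2.2.2.2.2.2.2.2.2.2.2.1.symm))
  refine d.cent_of_rep h ?_ (fun g hg => d.cent_T hg) hx
  obtain ⟨r1, r2, r3, r4⟩ := cnt_reps
  have hcc := cnt_conj h y
  rw [hc] at hcc
  rcases hh with e | e | e | e
  · rw [e, r1] at hcc; omega
  · exact e
  · rw [e, r3] at hcc; omega
  · rw [e, r4] at hcc; omega

/-- A class whose centraliser in the copy determines a transvection. -/
theorem cent_isolated {c r : Sp} {vr : ℕ} (hc : c * c = 1) (hr : r * r = 1) (hr64 : cnt (enc r) = 64)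
    (hrc : r * c = c * r) (hrc80 : cnt (enc (r * c)) = 80) (hvr : enc r = tvc vr)
    (huniq : ∀ v < 64, commB (tvc v) (enc c) = true → cnt (cm (tvc v) (enc c)) = 80 → v = vr)
    (hA : xA * c = c * xA) (hT : xT * c = c * xT) {g : G} (hg : g * d.φ c = d.φ c * g) : g ∈ d.φ.range := by
  have hrne : r ≠ 1 := ne_one_of_cnt (by rw [hr64]; exact class_facts.2.2.2.2.2.2.2.2.2.2.2.2.2.2.2.2.2.2.2.1.symm)
  obtain ⟨-, -, hA80, hAT80, -⟩ := four_facts
  have eA : enc xA = fourA := enc_mk _ _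
  have eT : enc xT = cT := enc_mk _ _
  have hAA : xA * xA = 1 := invol_of_cm eA class_facts.2.2.2.2.2.2.2.2.2.2.1
  have hATc : xA * xT = xT * xA := commute_of_commB (by rw [eA, eT]; exact four_facts.2.1)
  have hT80 : cnt (enc xT) = 80 := cnt_reps.2.1
  let Y : Subgroup G := Subgroup.centralizer ({d.φ c} : Set G)
  have hmem : ∀ {x : Sp}, x * c = c * x → d.φ x ∈ Y := fun {x} h =>
    Subgroup.mem_centralizer_singleton_iff.2 (by rw [← map_mul, h, map_mul])
  have hY : ∀ y : Y, (y : G) * d.φ c = d.φ c * y := fun y => Subgroup.mem_centralizer_singleton_iff.1 y.2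
  have hcentY : ∀ {x : Sp} (hx : x * c = c * x), x * x = 1 → cnt (enc x) = 80 → ∀ y : Y,
      y * ⟨d.φ x, hmem hx⟩ = ⟨d.φ x, hmem hx⟩ * y → y ∈ d.φ.range.subgroupOf Y := fun {x} hx h2 h80 y h =>
    Subgroup.mem_subgroupOf.2 (d.cent_eighty h2 h80 (congrArg Subtype.val h))
  have hab : xA * xT * c = c * (xA * xT) := by rw [mul_assoc, hT, ← mul_assoc, hA, mul_assoc]
  have hab2 : xA * xT * (xA * xT) = 1 := by
    calc xA * xT * (xA * xT) = xA * (xT * xA) * xT := by group
      _ = xA * (xA * xT) * xT := by rw [hATc]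
      _ = xA * xA * (xT * xT) := by group
      _ = 1 := by rw [hAA, xT_invol, one_mul]
  have hinjY : ∀ {x y : Sp} (hx : x * c = c * x) (hy : y * c = c * y),
      (⟨d.φ x, hmem hx⟩ : Y) = ⟨d.φ y, hmem hy⟩ → x = y := fun _ _ e => d.inj (congrArg Subtype.val e)
  have h1c : (1 : Sp) * c = c * 1 := by rw [one_mul, mul_one]
  have hY1 : (1 : Y) = ⟨d.φ 1, hmem h1c⟩ := Subtype.ext d.φ.map_one.symm
  have htop := isolated_top (d.φ.range.subgroupOf Y) (r := ⟨d.φ r, hmem hrc⟩) (a := ⟨d.φ xA, hmem hA⟩)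
    (b := ⟨d.φ xT, hmem hT⟩) (by
      haveI : Fact (Nat.Prime 2) := ⟨Nat.prime_two⟩
      rw [Subgroup.orderOf_mk, d.orderOf_φ]
      exact orderOf_eq_prime (by rw [pow_two, hr]) hrne)
    (Subgroup.mem_subgroupOf.2 ⟨r, rfl⟩) ?_ ?_ (Subtype.ext (d.φ_invol hAA)) (Subtype.ext (d.φ_invol xT_invol))
    (Subtype.ext (by show d.φ xA * d.φ xT = d.φ xT * d.φ xA; rw [← map_mul, hATc, map_mul]))
    (fun e => ne_one_of_cnt (x := xA)
      (by rw [eA, hA80]; exact class_facts.2.2.2.2.2.2.2.2.2.2.2.2.2.2.2.2.2.2.2.2.1.symm)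
      (hinjY hA h1c (e.trans hY1)))
    (fun e => ne_one_of_cnt (x := xT)
      (by rw [hT80]; exact class_facts.2.2.2.2.2.2.2.2.2.2.2.2.2.2.2.2.2.2.2.2.1.symm)
      (hinjY hT h1c (e.trans hY1)))
    (fun e => by
      have h := congrArg enc (hinjY hA hT e)
      rw [eA, eT] at h
      have := class_facts.2.2.2.2.2.2.2.2.2.2.2.2.2.2.2.2.2.2.2.2.2.1
      rw [h, Nat.beq_refl] at this
      exact Bool.noConfusion this)
    (hcentY hA hAA (by rw [eA, hA80])) (hcentY hT xT_invol hT80) ?_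
  · have h : (⟨g, Subgroup.mem_centralizer_singleton_iff.2 hg⟩ : Y) ∈ d.φ.range.subgroupOf Y := by
      rw [htop]; exact Subgroup.mem_top _
    exact Subgroup.mem_subgroupOf.1 h
  · intro y hy
    have h1 : (y : G) * d.φ r = d.φ r * y := congrArg Subtype.val hy
    refine Subgroup.mem_subgroupOf.2 (d.cent_eighty (y := r * c) ?_ hrc80 ?_)
    · calc r * c * (r * c) = r * (c * r) * c := by group
        _ = r * (r * c) * c := by rw [hrc]
        _ = r * r * (c * c) := by group
        _ = 1 := by rw [hr, hc, one_mul]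
    · rw [map_mul, ← mul_assoc, h1, mul_assoc, hY y, ← mul_assoc]
  · intro y hy
    obtain ⟨w, hw⟩ := Subgroup.mem_subgroupOf.1 hy
    have hw' : (y : G) * d.φ r * (y : G)⁻¹ = d.φ w := hw.symm
    have hwc : w * c = c * w := d.inj (by
      rw [map_mul, map_mul, hw]
      exact hY (y * ⟨d.φ r, hmem hrc⟩ * y⁻¹))
    have hw64 : cnt (enc w) = 64 := (d.cnt_fusion hr hw').trans hr64
    have hw2 : w * w = 1 := d.inj (by
      rw [map_mul, map_one, ← hw']
      calc (y : G) * d.φ r * (y : G)⁻¹ * ((y : G) * d.φ r * (y : G)⁻¹) = y * (d.φ r * d.φ r) * (y : G)⁻¹ := by group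
        _ = 1 := by rw [d.φ_invol hr]; group)
    have hwc80 : cnt (enc (w * c)) = 80 := by
      refine (d.cnt_fusion (u := r * c) ?_ (g := (y : G)) ?_).trans hrc80
      · calc r * c * (r * c) = r * (c * r) * c := by group
          _ = r * (r * c) * c := by rw [hrc]
          _ = r * r * (c * c) := by group
          _ = 1 := by rw [hr, hc, one_mul]
      · rw [map_mul, map_mul, ← hw']
        calc (y : G) * (d.φ r * d.φ c) * (y : G)⁻¹
            = (y : G) * d.φ r * (y : G)⁻¹ * ((y : G) * d.φ c) * (y : G)⁻¹ := by group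
          _ = (y : G) * d.φ r * (y : G)⁻¹ * (d.φ c * y) * (y : G)⁻¹ := by rw [hY y]
          _ = _ := by group
    obtain ⟨v, hv, hwv⟩ := eq_tvc hw2 hw64
    have hvv := huniq v hv (by rw [← hwv]; exact commB_of_commute hwc) (by rw [← hwv, ← enc_mul]; exact hwc80)
    refine Subtype.ext ?_
    show (y : G) * d.φ r * (y : G)⁻¹ = d.φ r
    rw [hw', enc_inj (hwv.trans (by rw [hvr, hvv]))]
  · intro y h
    refine Subgroup.mem_subgroupOf.2 (d.cent_eighty hab2 (by rw [enc_mul, eA, eT, hAT80]) ?_)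
    rw [map_mul]
    exact congrArg Subtype.val h

theorem cent_C {x : G} (h : x * d.φ xC = d.φ xC * x) : x ∈ d.φ.range := by
  obtain ⟨f1, f2, f3, f4, -, -, -, -, f9, -⟩ := class_facts
  obtain ⟨-, -, -, -, fA, fT, -, -, -⟩ := four_facts
  have e : enc xC = cC := enc_mk _ _
  have e3 : enc x3 = tvc 3 := enc_mk _ _
  refine d.cent_isolated (c := xC) (r := x3) (vr := 3) (invol_of_cm e f9) (invol_of_cm e3 f4) (by rw [e3, f3])
    (commute_of_commB (by rw [e3, e]; exact f1)) (by rw [enc_mul, e3, e, f2]) e3 ?_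
    (commute_of_commB (by rw [xA, enc_mk, e]; exact fA)) (commute_of_commB (by rw [xT, enc_mk, e]; exact fT)) h
  intro v hv hc h80
  have hall := List.all_eq_true.1 tvc_c v (List.mem_range.2 hv)
  rw [e] at hc h80
  simpa [hc, h80] using hall

theorem cent_B {x : G} (h : x * d.φ xB = d.φ xB * x) : x ∈ d.φ.range := by
  obtain ⟨-, -, -, -, f1, f2, f3, f4, -, f10, -⟩ := class_facts
  obtain ⟨-, -, -, -, -, -, fA, fT, -⟩ := four_facts
  have e : enc xB = cB := enc_mk _ _
  have e7 : enc x7 = tvc 7 := enc_mk _ _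
  refine d.cent_isolated (c := xB) (r := x7) (vr := 7) (invol_of_cm e f10) (invol_of_cm e7 f4) (by rw [e7, f3])
    (commute_of_commB (by rw [e7, e]; exact f1)) (by rw [enc_mul, e7, e, f2]) e7 ?_
    (commute_of_commB (by rw [xA, enc_mk, e]; exact fA)) (commute_of_commB (by rw [xT, enc_mk, e]; exact fT)) h
  intro v hv hc h80
  have hall := List.all_eq_true.1 tvc_b v (List.mem_range.2 hv)
  rw [e] at hc h80
  simpa [hc, h80] using hall

/-- An involution that is no transvection is centralised only inside the copy. -/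
theorem cent_not_transvection {y : Sp} (hy : y * y = 1) (hy1 : y ≠ 1) (hc : cnt (enc y) ≠ 64) {x : G}
    (hx : x * d.φ y = d.φ y * x) : x ∈ d.φ.range := by
  obtain ⟨h, hh⟩ := classify hy hy1
  have hcc := cnt_conj h y
  rcases hh with e | e | e | e
  · rw [e, cnt_reps.1] at hcc; exact absurd hcc.symm hc
  · exact d.cent_of_rep h e (fun g hg => d.cent_T hg) hx
  · exact d.cent_of_rep h e (fun g hg => d.cent_C hg) hx
  · exact d.cent_of_rep h e (fun g hg => d.cent_B hg) hx

theorem cent_R {g : G} (hg : g * d.φ xR = d.φ xR * g) : g ∈ d.φ.range := by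
  obtain ⟨-, -, -, -, -, -, -, -, f9, -, -, f12, f13, f14, f15, f16, f17, f18, f19, -, -, -⟩ := class_facts
  have eR : enc xR = cR := enc_mk _ _
  have eT : enc xT = cT := enc_mk _ _
  have eC : enc xC = cC := enc_mk _ _
  have e2 : enc x2 = tvc 2 := enc_mk _ _
  have hR2 : xR * xR = 1 := invol_of_cm eR f13
  have hC : xC = xR * x2 := enc_inj (by rw [enc_mul, eC, eR, e2, f19])
  have hTR : xT * xR = xR * xT := commute_of_commB (by rw [eT, eR]; exact f16)
  have h2R : x2 * xR = xR * x2 := commute_of_commB (by rw [e2, eR]; exact f17)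
  have h22 : x2 * x2 = 1 := invol_of_cm e2 f14
  set r := d.φ x2 with hr
  set u := g * r * g⁻¹ with hu
  have hu2 : u * u = 1 := by
    rw [hu]
    calc g * r * g⁻¹ * (g * r * g⁻¹) = g * (r * r) * g⁻¹ := by group
      _ = 1 := by rw [hr, d.φ_invol h22]; group
  have huR : d.φ xR * u = u * d.φ xR := by
    have hrR : r * d.φ xR = d.φ xR * r := by rw [hr, ← map_mul, h2R, map_mul]
    rw [hu]
    calc d.φ xR * (g * r * g⁻¹) = d.φ xR * g * r * g⁻¹ := by group
      _ = g * (d.φ xR * r) * g⁻¹ := by rw [← hg]; group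
      _ = g * r * (g⁻¹ * (g * d.φ xR)) * g⁻¹ := by rw [← hrR]; group
      _ = g * r * (g⁻¹ * (d.φ xR * g)) * g⁻¹ := by rw [hg]
      _ = _ := by group
  have hnc : ¬ IsConj u (d.φ xT) := fun h => by
    obtain ⟨k, hk⟩ := isConj_iff.1 h
    have := d.cnt_fusion h22 (g := k * g) (v := xT) (by rw [← hk, hu, hr]; group)
    rw [cnt_reps.2.1, e2, f15] at this
    omega
  obtain ⟨w, hw2, hw1, hwu, hwv, hwc, hwconj⟩ := central_invol hu2 (d.φ_invol xT_invol) hnc
  obtain ⟨w', rfl⟩ := d.cent_T hwv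
  have hw'2 : w' * w' = 1 := d.inj (by rw [map_mul, map_one]; exact hw2)
  have hw'1 : w' ≠ 1 := fun e => hw1 (by rw [e, map_one])
  have hw'R : w' * xR = xR * w' := d.inj (by
    rw [map_mul, map_mul]
    exact (hwc _ huR (by rw [← map_mul, ← hTR, map_mul])).symm)
  have hwR : w' ≠ xR := fun e => by
    rw [e] at hwconj
    rw [← map_mul] at hwconj
    have hRT : cnt (enc (xR * xT)) = 48 := by rw [← hTR, enc_mul, eT, eR, f18]
    rcases hwconj with h | h <;> obtain ⟨k, hk⟩ := isConj_iff.1 h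
    · have := d.cnt_fusion h22 (g := k * g) (v := xR * xT) (by rw [← hk, hu, hr]; group)
      rw [hRT, e2, f15] at this
      omega
    · have := d.cnt_fusion xT_invol hk
      rw [hRT, cnt_reps.2.1] at this
      omega
  obtain ⟨u', hu'⟩ : u ∈ d.φ.range := by
    by_cases h64 : cnt (enc w') = 64
    · obtain ⟨v, hv, hwv'⟩ := eq_tvc hw'2 h64
      have hall := List.all_eq_true.1 tvc_R v (List.mem_range.2 hv)
      have hcom := commB_of_commute hw'R
      rw [hwv', eR] at hcom
      simp only [hcom, Bool.not_true, Bool.false_or, Bool.or_eq_true, beq_iff_eq] at hall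
      rcases hall with (h | h) | h
      · exact absurd (enc_inj (hwv'.trans (h.trans eR.symm))) hwR
      · exact absurd (enc_inj (hwv'.trans (h.trans enc_one.symm))) hw'1
      · have h48 : cnt (enc (w' * xR)) = 48 := by rw [enc_mul, hwv', eR, h]
        refine d.cent_not_transvection (y := w' * xR) ?_ (ne_one_of_cnt ?_) (by rw [h48]; norm_num) ?_
        · calc w' * xR * (w' * xR) = w' * (xR * w') * xR := by group
            _ = w' * (w' * xR) * xR := by rw [hw'R]
            _ = w' * w' * (xR * xR) := by group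
            _ = 1 := by rw [hw'2, hR2, one_mul]
        · rw [h48]
          exact class_facts.2.2.2.2.2.2.2.2.2.2.2.2.2.2.2.2.2.2.2.2.2.2.symm
        · rw [map_mul, ← mul_assoc, ← hwu, mul_assoc, ← huR, ← mul_assoc]
    · exact d.cent_not_transvection hw'2 hw'1 h64 hwu.symm
  refine d.mem_range_of_conj (u := xC) (invol_of_cm eC f9) (fun x hx => d.cent_C hx) (v := xR * u') ?_
  rw [map_mul, hu', hC, map_mul, hu, ← hr]
  calc g * (d.φ xR * r) * g⁻¹ = g * d.φ xR * r * g⁻¹ := by group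
    _ = d.φ xR * g * r * g⁻¹ := by rw [hg]
    _ = _ := by group

theorem cent_invol {y : Sp} (hy : y * y = 1) (hy1 : y ≠ 1) {x : G} (hx : x * d.φ y = d.φ y * x) :
    x ∈ d.φ.range := by
  by_cases h64 : cnt (enc y) = 64
  · obtain ⟨h, hh⟩ := classify hy hy1
    have hcc := cnt_conj h y
    obtain ⟨r1, r2, r3, r4⟩ := cnt_reps
    rcases hh with e | e | e | e
    · exact d.cent_of_rep h e (fun g hg => d.cent_R hg) hx
    · rw [e, r2] at hcc; omega
    · rw [e, r3] at hcc; omega
    · rw [e, r4] at hcc; omega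
  · exact d.cent_not_transvection hy hy1 h64 hx

theorem range_eq_top : d.φ.range = ⊤ := by
  rw [Subgroup.eq_top_iff']
  intro g
  have eR : enc xR = cR := enc_mk _ _
  set u := g * d.φ xT * g⁻¹ with hu
  have hu2 : u * u = 1 := by
    rw [hu]
    calc g * d.φ xT * g⁻¹ * (g * d.φ xT * g⁻¹) = g * (d.φ xT * d.φ xT) * g⁻¹ := by group
      _ = 1 := by rw [d.φ_invol xT_invol]; group
  have hR2 : xR * xR = 1 := invol_of_cm eR class_facts.2.2.2.2.2.2.2.2.2.2.2.2.1
  have hnc : ¬ IsConj u (d.φ xR) := fun h => by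
    obtain ⟨k, hk⟩ := isConj_iff.1 h
    have := d.cnt_fusion xT_invol (g := k * g) (v := xR) (by rw [← hk, hu]; group)
    rw [cnt_reps.1, cnt_reps.2.1] at this
    omega
  obtain ⟨w, hw2, hw1, hwu, hwv, -, -⟩ := central_invol hu2 (d.φ_invol hR2) hnc
  obtain ⟨w', rfl⟩ := d.cent_R hwv
  have hu' : u ∈ d.φ.range := d.cent_invol (d.inj (by rw [map_mul, map_one]; exact hw2))
    (fun e => hw1 (by rw [e, map_one])) hwu.symm
  obtain ⟨u', hu'⟩ := hu'
  exact d.mem_range_of_conj xT_invol (fun x hx => d.cent_T hx) (hu ▸ hu'.symm)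

end Emb

/-- A subgroup isomorphic to `Sp₆(2)` containing the centralisers of its elements of order three is the whole
group. -/
theorem top_of_three_cent {G : Type*} [Group G] [Finite G] (H : Subgroup G)
    (e : H ≃* Matrix.symplecticGroup (Fin 3) (ZMod 2))
    (h3 : ∀ y ∈ H, orderOf y = 3 → Subgroup.centralizer ({y} : Set G) ≤ H) : H = ⊤ := by
  have hinj : Function.Injective (H.subtype.comp e.symm.toMonoidHom) := H.subtype_injective.comp e.symm.injective
  have hrange : (H.subtype.comp e.symm.toMonoidHom).range = H :=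
    le_antisymm (by rintro _ ⟨x, rfl⟩; exact (e.symm x).2) fun g hg => ⟨e ⟨g, hg⟩, by simp⟩
  let d : Emb G :=
    { φ := H.subtype.comp e.symm.toMonoidHom
      inj := hinj
      three := fun y hy g hg => by
        rw [hrange]
        exact h3 _ (e.symm y).2 ((orderOf_injective _ hinj y).trans hy)
          (Subgroup.mem_centralizer_singleton_iff.2 hg) }
  exact hrange.symm.trans d.range_eq_top

end Cfsg.Agent.Lie.PSpFourThreeFull.SpSix
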