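import Cfsg.Agent.Lib.Lie.PSpFourThreeFull.SpSix.SylowTwo
import Cfsg.Agent.Lib.Fusion.TransferPow

/-!
The centraliser of `t` has a subgroup of index six meeting the copy of `Sp₆(2)` in the elements acting trivially
on `L^⊥ / L`.
-/

set_option autoImplicit false
set_option maxHeartbeats 1000000

universe u

namespace Cfsg.Agent.Lie.PSpFourThreeFull.SpSix

theorem puOdd_mul : ∀ p ∈ ([(4, 32), (4, 36), (32, 4), (36, 32), (32, 36), (36, 4)] : List (ℕ × ℕ)),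
    ∀ q ∈ ([(4, 32), (4, 36), (32, 4), (36, 32), (32, 36), (36, 4)] : List (ℕ × ℕ)),
      puOdd (puMul p q) = (puOdd p ^^ puOdd q) ∧
      (puOdd p = false → puOdd q = false → puRot (puMul p q) % 3 = (puRot p + puRot q) % 3) := by decide +kernel

/-- The sign on `L^⊥ / L`. -/
def sgnU : XT →* ℤˣ where
  toFun x := if puOdd (pu (enc x.1)) then -1 else 1
  map_one' := by
    show (if puOdd (pu (enc (1 : Sp))) then (-1 : ℤˣ) else 1) = 1
    rw [pu_one]; decide +kernel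
  map_mul' x y := by
    show (if puOdd (pu (enc (x.1 * y.1))) then (-1 : ℤˣ) else 1) = _
    rw [pu_mul x.2 y.2, (puOdd_mul _ (pu_mem x.2) _ (pu_mem y.2)).1]
    cases puOdd (pu (enc x.1)) <;> cases puOdd (pu (enc y.1)) <;> simp

theorem sgnU_apply (x : XT) : sgnU x = if puOdd (pu (enc x.1)) then -1 else 1 := rfl

theorem isA_sgn {x : XT} (h : isA (enc x.1) = true) : pu (enc x.1) = (4, 32) := by
  have hc := xh_check (mem_XT.1 x.2)
  simp only [xhCheck, Bool.and_eq_true] at hc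
  obtain ⟨⟨⟨⟨-, e⟩, -⟩, -⟩, -⟩ := hc
  rw [h, Bool.not_true, Bool.false_or, beq_iff_eq] at e
  exact e

theorem isU_sgn {x : XT} (h : isU (enc x.1) = true) : puOdd (pu (enc x.1)) = true := by
  have hc := xh_check (mem_XT.1 x.2)
  simp only [xhCheck, Bool.and_eq_true] at hc
  obtain ⟨⟨⟨-, e⟩, -⟩, -⟩ := hc
  rwa [h, Bool.not_true, Bool.false_or] at e

theorem mem_span_of {H : Subgroup Sp} :
    ∀ (l : List (ℕ × ℕ)) (acc : List ℕ), (∀ a ∈ acc, ∃ x ∈ H, enc x = a) →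
      (∀ p ∈ l, ∃ x ∈ H, enc x = cm p.1 p.2) →
      ∀ a ∈ l.foldl (fun acc p => acc ++ acc.map fun c => cm c (cm p.1 p.2)) acc, ∃ x ∈ H, enc x = a
  | [], _, hacc, _ => hacc
  | p :: l, acc, hacc, hl => by
    refine mem_span_of l _ (fun a ha => ?_) fun q hq => hl q (List.mem_cons_of_mem _ hq)
    rcases List.mem_append.1 ha with h | h
    · exact hacc a h
    · obtain ⟨c, hc, rfl⟩ := List.mem_map.1 h
      obtain ⟨x, hx, rfl⟩ := hacc c hc
      obtain ⟨y, hy, e⟩ := hl p List.mem_cons_self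
      exact ⟨x * y, H.mul_mem hx hy, by rw [enc_mul, e]⟩

/-- A subgroup of the centraliser of `t` with all the involutions of the first kind contains every element acting
trivially on `L^⊥ / L`. -/
theorem trivial_part_le (H : Subgroup Sp) (hA : ∀ x ∈ XT, isA (enc x) = true → x ∈ H) {x : Sp} (hx : x ∈ XT)
    (hp : pu (enc x) = (4, 32)) : x ∈ H := by
  obtain ⟨hg1, hg2, hg3, -, -⟩ := gens_mem
  have mkA : ∀ a, okB a = true → commB a cT = true → isA a = true → ∃ y ∈ H, enc y = a := fun a h1 h2 h3 =>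
    ⟨SpSix.mk a h1, hA _ (mem_XT.2 (mem_xhList (by rw [enc_mk]; exact Nat.eq_of_beq_eq_true h2)))
      (by rwa [enc_mk]), enc_mk a h1⟩
  have hspan : ∀ a ∈ kSpanLit, ∃ y ∈ H, enc y = a := by
    rw [← kSpan_eq]
    refine mem_span_of _ _ (fun a ha => ⟨1, H.one_mem, by rw [List.mem_singleton.1 ha, enc_one]⟩) fun p hp => ?_
    have h := List.all_eq_true.1 hg1 p hp
    simp only [Bool.and_eq_true] at h
    obtain ⟨⟨⟨⟨⟨o1, o2⟩, c1⟩, c2⟩, i1⟩, i2⟩ := h
    obtain ⟨y1, hy1, e1⟩ := mkA _ o1 c1 i1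
    obtain ⟨y2, hy2, e2⟩ := mkA _ o2 c2 i2
    exact ⟨y1 * y2, H.mul_mem hy1 hy2, by rw [enc_mul, e1, e2]⟩
  have hl : ∀ a ∈ leviL, ∃ y ∈ H, enc y = a := by
    have hA3 : ∀ a ∈ ([34634481857, 34498166850, 34764505219] : List ℕ), ∃ y ∈ H, enc y = a := fun a ha => by
      have h := List.all_eq_true.1 hg2 a ha
      simp only [Bool.and_eq_true] at h
      exact mkA _ h.1.1 h.1.2 h.2
    obtain ⟨y1, hy1, e1⟩ := hA3 34634481857 (by simp)
    obtain ⟨y2, hy2, e2⟩ := hA3 34498166850 (by simp)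
    intro a ha
    simp only [leviL, List.mem_cons, List.not_mem_nil, or_false] at ha
    rcases ha with rfl | rfl | rfl | rfl | rfl | rfl
    · exact ⟨1, H.one_mem, enc_one⟩
    · exact hA3 _ (by simp)
    · exact hA3 _ (by simp)
    · exact hA3 _ (by simp)
    all_goals
      first
      | exact ⟨y1 * y2, H.mul_mem hy1 hy2, by rw [enc_mul, e1, e2]; decide +kernel⟩
      | exact ⟨y2 * y1, H.mul_mem hy2 hy1, by rw [enc_mul, e1, e2]; decide +kernel⟩
  have hc := xh_check (mem_XT.1 hx)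
  simp only [xhCheck, Bool.and_eq_true] at hc
  obtain ⟨⟨-, e⟩, -⟩ := hc
  rw [hp] at e
  simp only [beq_self_eq_true, Bool.not_true, Bool.false_or, Bool.and_eq_true, List.any_eq_true,
    List.contains_iff_mem] at e
  obtain ⟨⟨⟨l, hl', hk⟩, -⟩, -⟩ := e
  obtain ⟨y, hy, ey⟩ := hl l hl'
  obtain ⟨z, hz, ez⟩ := hspan _ hk
  have : x * y = z := enc_inj (by rw [enc_mul, ey, ez])
  rw [← mul_inv_cancel_right x y, this]
  exact H.mul_mem hz (H.inv_mem hy)

theorem pu_levi : pu (enc (xU : Sp)) = (32, 36) ∧ pu (enc (xU * xU)) = (36, 4) ∧ puOdd (pu (enc xSU)) = true ∧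
    pu (enc (xSU * xU)) ∈ [(4, 36), (32, 4), (36, 32)] ∧ pu (enc (1 : Sp)) = (4, 32) := by
  simp only [enc_mul, enc_one, xU, xSU, enc_mk]
  decide +kernel

/-- An element is a product of one acting trivially, a power of `xU` and possibly `xSU`. -/
theorem pu_cases {x : Sp} (hx : x ∈ XT) : ∃ m ∈ XT, pu (enc m) = (4, 32) ∧ ∃ j : ℕ,
    x = m * xU ^ j ∨ x = m * (xU ^ j * xSU) := by
  have key : ∀ w ∈ XT, pu (enc w) = pu (enc x) → ∃ m ∈ XT, pu (enc m) = (4, 32) ∧ x = m * w := fun w hw e =>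
    ⟨x * w⁻¹, mul_mem hx (inv_mem hw), by
      rw [pu_mul hx (inv_mem hw), ← e, ← pu_mul hw (inv_mem hw), mul_inv_cancel, pu_one],
      by rw [inv_mul_cancel_right]⟩
  have hw : ∀ p ∈ ([(4, 32), (4, 36), (32, 4), (36, 32), (32, 36), (36, 4)] : List (ℕ × ℕ)),
      ∃ j < 3, pu (enc (xU ^ j)) = p ∨ pu (enc (xU ^ j * xSU)) = p := by
    have e0 : enc (xU ^ 0) = cid := by rw [pow_zero, enc_one]
    have e1 : enc (xU ^ 1) = eU := by rw [pow_one, xU, enc_mk]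
    have e2 : enc (xU ^ 2) = cm eU eU := by rw [pow_two, enc_mul, xU, enc_mk]
    have es : enc xSU = sU := enc_mk _ _
    intro p hp
    simp only [List.mem_cons, List.not_mem_nil, or_false] at hp
    rcases hp with rfl | rfl | rfl | rfl | rfl | rfl <;>
      first
      | exact ⟨0, by norm_num, Or.inl (by rw [e0]; decide +kernel)⟩
      | exact ⟨1, by norm_num, Or.inl (by rw [e1]; decide +kernel)⟩
      | exact ⟨2, by norm_num, Or.inl (by rw [e2]; decide +kernel)⟩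
      | exact ⟨0, by norm_num, Or.inr (by rw [enc_mul, e0, es]; decide +kernel)⟩
      | exact ⟨1, by norm_num, Or.inr (by rw [enc_mul, e1, es]; decide +kernel)⟩
      | exact ⟨2, by norm_num, Or.inr (by rw [enc_mul, e2, es]; decide +kernel)⟩
  obtain ⟨j, -, h | h⟩ := hw _ (pu_mem hx)
  · obtain ⟨m, hm, hp, e⟩ := key _ (pow_mem xU_mem j) h
    exact ⟨m, hm, hp, j, Or.inl e⟩
  · obtain ⟨m, hm, hp, e⟩ := key _ (mul_mem (pow_mem xU_mem j) xSU_mem) h
    exact ⟨m, hm, hp, j, Or.inr e⟩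

namespace Emb

variable {G : Type u} [Group G] (d : Emb G)

/-- The centraliser of `t` in the copy, inside the whole centraliser. -/
def HH : Subgroup d.XG := d.HX.subgroupOf d.XG

/-- The embedding of the centraliser. -/
def ξ : XT →* d.XG := (d.φ.comp XT.subtype).codRestrict d.XG fun x => d.map_mem_XG x.2

theorem ξ_coe (x : XT) : (d.ξ x : G) = d.φ x.1 := rfl

theorem ξ_mem (x : XT) : d.ξ x ∈ d.HH := Subgroup.mem_subgroupOf.2 ⟨x.1, x.2, rfl⟩

/-- The coordinates on the centraliser in the copy. -/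
noncomputable def eH : d.HH ≃* XT :=
  (Subgroup.subgroupOfEquivOfLe d.HX_le).trans (XT.equivMapOfInjective d.φ d.inj).symm

theorem φ_eH (h : d.HH) : d.φ (d.eH h).1 = ((h : d.XG) : G) := by
  have e := (XT.equivMapOfInjective d.φ d.inj).apply_symm_apply (Subgroup.subgroupOfEquivOfLe d.HX_le h)
  exact congrArg Subtype.val e

theorem eH_ξ (x : XT) : d.eH ⟨d.ξ x, d.ξ_mem x⟩ = x := Subtype.ext (d.inj (d.φ_eH _))

/-- The transfer of the sign. -/
noncomputable def tr2 [Finite G] : d.XG →* ℤˣ := MonoidHom.transfer (sgnU.comp d.eH.toMonoidHom)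

theorem tr2_invol [Finite G] (x : XT) (hx : x.1 * x.1 = 1)
    (hall : ∀ y : XT, y.1 * y.1 = 1 → cnt (enc y.1) = cnt (enc x.1) →
      cnt (enc (y.1 * xT)) = cnt (enc (x.1 * xT)) → sgnU y = sgnU x) : d.tr2 (d.ξ x) = sgnU x := by
  have hxT : x.1 * xT = xT * x.1 := Subgroup.mem_centralizer_singleton_iff.1 x.2
  have hval : (sgnU.comp d.eH.toMonoidHom) ⟨d.ξ x, d.ξ_mem x⟩ = sgnU x := congrArg sgnU (d.eH_ξ x)
  rw [tr2, Fusion.transfer_eq_map_pow _ _ (d.ξ_mem x), hval]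
  · have ho : Odd d.HH.index := Nat.odd_iff.2 (by have := d.relIndex_HX.1; rw [Subgroup.relIndex] at this; simp only [HH]; omega)
    rcases Int.units_eq_one_or (sgnU x) with h | h <;> rw [h]
    · exact one_pow _
    · exact ho.neg_one_pow
  intro m a h
  rw [hval]
  have hx' : x * x = 1 := Subtype.ext hx
  show sgnU (d.eH ⟨_, h⟩) = _
  rcases Nat.even_or_odd' m with ⟨k, rfl | rfl⟩
  · have he : (⟨a⁻¹ * d.ξ x ^ (2 * k) * a, h⟩ : d.HH) = 1 := Subtype.ext (by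
      show a⁻¹ * d.ξ x ^ (2 * k) * a = 1
      rw [← map_pow, pow_mul, pow_two, hx', one_pow, map_one, mul_one, inv_mul_cancel])
    rw [he, map_one, map_one, ← map_pow, pow_mul, pow_two, hx', one_pow, map_one]
  · have hpow : x ^ (2 * k + 1) = x := by rw [pow_succ, pow_mul, pow_two, hx', one_pow, one_mul]
    conv_rhs => rw [← map_pow, hpow]
    set y := d.eH ⟨_, h⟩ with hy
    have hyφ : (a : G)⁻¹ * d.φ x.1 * ((a : G)⁻¹)⁻¹ = d.φ y.1 := by
      rw [hy, d.φ_eH]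
      show _ = ((a⁻¹ * d.ξ x ^ (2 * k + 1) * a : d.XG) : G)
      rw [← map_pow, hpow, inv_inv]
      rfl
    have haT : (a : G) * d.φ xT = d.φ xT * a := d.mem_XG.1 a.2
    refine hall y (d.inj ?_) (d.cnt_fusion hx hyφ) (d.cnt_fusion (g := (a : G)⁻¹) ?_ ?_)
    · rw [map_mul, map_one, ← hyφ]
      calc (a : G)⁻¹ * d.φ x.1 * ((a : G)⁻¹)⁻¹ * ((a : G)⁻¹ * d.φ x.1 * ((a : G)⁻¹)⁻¹)
          = (a : G)⁻¹ * (d.φ x.1 * d.φ x.1) * a := by group
        _ = 1 := by rw [← map_mul, hx, map_one]; group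
    · calc x.1 * xT * (x.1 * xT) = x.1 * (xT * x.1) * xT := by group
        _ = x.1 * x.1 * (xT * xT) := by rw [← hxT]; group
        _ = 1 := by rw [hx, xT_invol, one_mul]
    · rw [map_mul, map_mul, ← hyφ]
      calc (a : G)⁻¹ * (d.φ x.1 * d.φ xT) * ((a : G)⁻¹)⁻¹
          = (a : G)⁻¹ * d.φ x.1 * ((a : G)⁻¹)⁻¹ * ((a : G)⁻¹ * (d.φ xT * a)) := by group
        _ = _ := by rw [← haT]; group

theorem involB_iff {x : Sp} : involB (enc x) = true ↔ x * x = 1 ∧ x ≠ 1 := by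
  simp only [involB, Bool.and_eq_true, Nat.beq_eq, Bool.not_eq_true', ← Bool.not_eq_true]
  rw [← enc_mul, ← enc_one]
  exact ⟨fun ⟨h1, h2⟩ => ⟨enc_inj h1, fun e => h2 (by rw [e])⟩, fun ⟨h1, h2⟩ => ⟨by rw [h1], fun e => h2 (enc_inj e)⟩⟩

theorem tr2_A [Finite G] (x : XT) (h : isA (enc x.1) = true) : d.tr2 (d.ξ x) = 1 := by
  have hone : ∀ y : XT, isA (enc y.1) = true → sgnU y = 1 := fun y hy => by
    rw [sgnU_apply, isA_sgn hy]; decide +kernel
  have h' := h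
  simp only [isA, Bool.and_eq_true, beq_iff_eq, involB_iff] at h'
  rw [d.tr2_invol x h'.1.1 ?_, hone x h]
  intro y hy2 hc1 hc2
  rw [hone x h]
  refine hone y ?_
  simp only [isA, Bool.and_eq_true, beq_iff_eq, involB_iff]
  rw [enc_mul, enc_mul, xT, enc_mk] at hc2
  refine ⟨⟨hy2, fun e => ?_⟩, hc1.trans h'.2.1, hc2.trans h'.2.2⟩
  rw [e, h'.2.1, enc_one] at hc1
  revert hc1
  decide +kernel

theorem tr2_SU [Finite G] : d.tr2 (d.ξ ⟨xSU, xSU_mem⟩) = -1 := by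
  have hneg : ∀ y : XT, isU (enc y.1) = true → sgnU y = -1 := fun y hy => by rw [sgnU_apply, isU_sgn hy, if_pos rfl]
  have h : isU (enc xSU) = true := by rw [xSU, enc_mk]; exact gens_mem.2.2.2.1
  have hneg' := hneg ⟨xSU, xSU_mem⟩ h
  have h' := h
  simp only [isU, Bool.and_eq_true, beq_iff_eq, involB_iff] at h'
  rw [d.tr2_invol ⟨xSU, xSU_mem⟩ h'.1.1 ?_, hneg']
  intro y hy2 hc1 hc2
  rw [hneg']
  refine hneg y ?_
  simp only [isU, Bool.and_eq_true, beq_iff_eq, involB_iff]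
  rw [enc_mul, enc_mul, xT, enc_mk] at hc2
  refine ⟨⟨hy2, fun e => ?_⟩, hc1.trans h'.2.1, hc2.trans h'.2.2⟩
  rw [e, enc_one] at hc2
  have h40 : cnt (cm (enc xSU) cT) = 40 := h'.2.2
  rw [h40] at hc2
  revert hc2
  decide +kernel

theorem unit_cube {u : ℤˣ} (h : u ^ 3 = 1) : u = 1 := by
  rcases Int.units_eq_one_or u with rfl | rfl
  · rfl
  · exact absurd h (by decide)

theorem tr2_eq [Finite G] (x : XT) : d.tr2 (d.ξ x) = sgnU x := by
  have hM : ∀ m : XT, pu (enc m.1) = (4, 32) → d.tr2 (d.ξ m) = 1 := fun m hm => by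
    have h := trivial_part_le (((d.tr2.comp d.ξ).ker).map XT.subtype)
      (fun y hy hA => ⟨⟨y, hy⟩, d.tr2_A ⟨y, hy⟩ hA, rfl⟩) m.2 hm
    obtain ⟨m', hm', e⟩ := h
    rwa [Subtype.ext e] at hm'
  have hU : d.tr2 (d.ξ ⟨xU, xU_mem⟩) = 1 := unit_cube (by
    rw [← map_pow, ← map_pow, show (⟨xU, xU_mem⟩ : XT) ^ 3 = 1 from Subtype.ext levi_rel.2.1, map_one, map_one])
  have hU' : sgnU ⟨xU, xU_mem⟩ = 1 := by rw [sgnU_apply, pu_levi.1]; decide +kernel
  have hS' : sgnU ⟨xSU, xSU_mem⟩ = -1 := by rw [sgnU_apply, pu_levi.2.2.1, if_pos rfl]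
  obtain ⟨m, hm, hp, j, e | e⟩ := pu_cases x.2
  · rw [show x = ⟨m, hm⟩ * ⟨xU, xU_mem⟩ ^ j from Subtype.ext e]
    simp only [map_mul, map_pow, hU, hU', hM ⟨m, hm⟩ hp]
    rw [sgnU_apply, hp, one_pow]; decide +kernel
  · rw [show x = ⟨m, hm⟩ * (⟨xU, xU_mem⟩ ^ j * ⟨xSU, xSU_mem⟩) from Subtype.ext e]
    simp only [map_mul, map_pow, hU, hU', hS', d.tr2_SU, hM ⟨m, hm⟩ hp]
    rw [sgnU_apply, hp, one_pow]; decide +kernel

/-- The subgroup of index two. -/
noncomputable def X2 [Finite G] : Subgroup d.XG := d.tr2.ker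

theorem mem_X2 [Finite G] (x : XT) : d.ξ x ∈ d.X2 ↔ puOdd (pu (enc x.1)) = false := by
  rw [X2, MonoidHom.mem_ker, d.tr2_eq, sgnU_apply]
  cases puOdd (pu (enc x.1)) <;> simp

/-- The rotation on the part of index two. -/
noncomputable def rot [Finite G] : d.HH.subgroupOf d.X2 →* Multiplicative (ZMod 3) where
  toFun h := Multiplicative.ofAdd (puRot (pu (enc (d.eH ⟨(h : d.X2), h.2⟩).1)) : ZMod 3)
  map_one' := by
    show Multiplicative.ofAdd (puRot (pu (enc (d.eH 1).1)) : ZMod 3) = 1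
    rw [map_one, OneMemClass.coe_one, pu_one]
    decide +kernel
  map_mul' x y := by
    have hev : ∀ h : d.HH.subgroupOf d.X2, puOdd (pu (enc (d.eH ⟨(h : d.X2), h.2⟩).1)) = false := fun h => by
      rw [← d.mem_X2, show d.ξ (d.eH ⟨(h : d.X2), h.2⟩) = ((h : d.X2) : d.XG) from Subtype.ext (d.φ_eH _)]
      exact (h : d.X2).2
    show Multiplicative.ofAdd (puRot (pu (enc (d.eH (⟨(x : d.X2), x.2⟩ * ⟨(y : d.X2), y.2⟩)).1)) : ZMod 3) = _
    rw [map_mul, Subgroup.coe_mul, pu_mul (d.eH _).2 (d.eH _).2]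
    have h2 := (puOdd_mul _ (pu_mem (d.eH ⟨(x : d.X2), x.2⟩).2) _ (pu_mem (d.eH ⟨(y : d.X2), y.2⟩).2)).2
      (hev x) (hev y)
    rw [← ofAdd_add, ← Nat.cast_add]
    refine congrArg Multiplicative.ofAdd ?_
    rw [ZMod.natCast_eq_natCast_iff']
    exact h2

/-- The transfer of the rotation. -/
noncomputable def tr3 [Finite G] : d.X2 →* Multiplicative (ZMod 3) := MonoidHom.transfer d.rot

theorem index_X2 [Finite G] : ¬ 3 ∣ (d.HH.subgroupOf d.X2).index := by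
  haveI : d.X2.Normal := by rw [X2]; infer_instance
  have hs : d.X2.relIndex d.HH = d.X2.index := by
    rw [← Subgroup.relIndex_sup_right]
    have htop : d.HH ⊔ d.X2 = ⊤ := eq_top_iff.2 fun g _ => by
      rcases Int.units_eq_one_or (d.tr2 g) with h | h
      · exact Subgroup.mem_sup_right h
      · rw [← mul_inv_cancel_right g (d.ξ ⟨xSU, xSU_mem⟩)⁻¹, inv_inv]
        refine Subgroup.mul_mem _ ?_ (Subgroup.mem_sup_left (d.ξ_mem _))
        refine Subgroup.mem_sup_right (show d.tr2 _ = 1 from ?_)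
        rw [map_mul, map_inv, h, d.tr2_SU]
        simp
    rw [sup_comm] at htop ⊢
    first
    | rw [htop, Subgroup.relIndex_top_right]
    | (rw [sup_comm, htop, Subgroup.relIndex_top_right])
  have e1 : d.X2.relIndex d.HH * d.HH.index = (d.X2 ⊓ d.HH).index := by
    rw [← Subgroup.inf_relIndex_right, Subgroup.relIndex_mul_index inf_le_right]
  have e2 : d.HH.relIndex d.X2 * d.X2.index = (d.X2 ⊓ d.HH).index := by
    rw [← Subgroup.inf_relIndex_right, inf_comm d.HH, Subgroup.relIndex_mul_index inf_le_left]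
  have h0 : d.X2.index ≠ 0 := Subgroup.index_ne_zero_of_finite
  have e3 : d.HH.relIndex d.X2 = d.HH.index := by
    rw [hs, ← e2, mul_comm] at e1
    exact (Nat.eq_of_mul_eq_mul_right (Nat.pos_of_ne_zero h0) e1).symm
  show ¬ 3 ∣ d.HH.relIndex d.X2
  rw [e3]
  exact d.relIndex_HX.2

theorem tr3_U [Finite G] (h : d.ξ ⟨xU, xU_mem⟩ ∈ d.X2) : d.tr3 ⟨_, h⟩ ≠ 1 := by
  set x : d.X2 := ⟨_, h⟩ with hxdef
  have hx : x ∈ d.HH.subgroupOf d.X2 := d.ξ_mem ⟨xU, xU_mem⟩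
  have hval : d.rot ⟨x, hx⟩ = Multiplicative.ofAdd (1 : ZMod 3) := by
    show Multiplicative.ofAdd (puRot (pu (enc (d.eH ⟨d.ξ ⟨xU, xU_mem⟩, _⟩).1)) : ZMod 3) = _
    rw [d.eH_ξ, pu_levi.1]
    decide +kernel
  have hx3 : x ^ 3 = 1 := Subtype.ext (Subtype.ext (by
    show d.φ xU ^ 3 = 1
    rw [← map_pow, levi_rel.2.1, map_one]))
  rw [tr3, Fusion.transfer_eq_map_pow d.rot x hx, hval]
  · intro e
    rw [← ofAdd_nsmul, nsmul_one, ofAdd_eq_one, ZMod.natCast_eq_zero_iff] at e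
    exact d.index_X2 e
  intro m a ha
  by_cases hm : 3 ∣ m
  · obtain ⟨k, rfl⟩ := hm
    have e : (⟨a⁻¹ * x ^ (3 * k) * a, ha⟩ : d.HH.subgroupOf d.X2) = 1 := Subtype.ext (by
      show a⁻¹ * x ^ (3 * k) * a = 1
      rw [pow_mul, hx3, one_pow, mul_one, inv_mul_cancel])
    rw [e, map_one, pow_mul, hval, show (Multiplicative.ofAdd (1 : ZMod 3)) ^ 3 = 1 by decide +kernel, one_pow]
  have hord : orderOf (xU ^ m) = 3 := by
    haveI : Fact (Nat.Prime 3) := ⟨Nat.prime_three⟩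
    refine orderOf_eq_prime (by rw [← pow_mul, mul_comm, pow_mul, levi_rel.2.1, one_pow]) fun e => hm ?_
    exact order_xU ▸ orderOf_dvd_of_pow_eq_one e
  obtain ⟨w, hw, hwe⟩ : ∃ w ∈ XT, d.φ w = ((a : d.XG) : G)⁻¹ * d.φ (xU ^ m) * ((a : d.XG) : G) :=
    ⟨(d.eH ⟨_, ha⟩).1, (d.eH ⟨_, ha⟩).2, (d.φ_eH _).trans (by rw [map_pow]; rfl)⟩
  obtain ⟨y, hy, hya⟩ := d.of_mem_XG (g := ((a : d.XG) : G)⁻¹) (d.XG.inv_mem (a : d.XG).2)
    (d.range_of_three_conj hord ⟨w, by rw [inv_inv]; exact hwe⟩)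
  have haH : a ∈ d.HH.subgroupOf d.X2 := by
    rw [← inv_inv a]
    exact inv_mem (show a⁻¹ ∈ d.HH.subgroupOf d.X2 from ⟨y, hy, hya⟩)
  rw [show (⟨a⁻¹ * x ^ m * a, ha⟩ : d.HH.subgroupOf d.X2) = ⟨a, haH⟩⁻¹ * ⟨x, hx⟩ ^ m * ⟨a, haH⟩ from rfl,
    map_mul, map_mul, map_inv, map_pow, inv_mul_cancel_comm]

end Emb

end Cfsg.Agent.Lie.PSpFourThreeFull.SpSix
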